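import Cfsg.Agent.H98.TensOrth.Space

/-!
Additive sets of skew maps invariant under `Ω` contain all wedges, with all multiples.
-/

set_option autoImplicit false
set_option linter.unusedSectionVars false

namespace H98.TO

open H43

variable {F : Type*} [Field F] [Finite F] {W : Type*} [AddCommGroup W] [Module F W] [FiniteDimensional F W]
  {Q : QuadraticForm F W}

/-- The skew map of two vectors. -/
def wedge (Q : QuadraticForm F W) (a b : W) : W →ₗ[F] W :=
  ((polB Q).flip a).smulRight b - ((polB Q).flip b).smulRight a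

theorem wedge_apply (a b x : W) : wedge Q a b x = polB Q x a • b - polB Q x b • a := by simp [wedge]

theorem wedge_self (a : W) : wedge Q a a = 0 := LinearMap.ext fun x => by simp [wedge_apply]

theorem wedge_swap (a b : W) : wedge Q a b = -wedge Q b a := LinearMap.ext fun x => by simp [wedge_apply]

theorem wedge_add (a b b' : W) : wedge Q a (b + b') = wedge Q a b + wedge Q a b' :=
  LinearMap.ext fun x => by simp only [wedge_apply, LinearMap.add_apply, map_add]; module

theorem wedge_smul (r : F) (a b : W) : wedge Q a (r • b) = r • wedge Q a b :=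
  LinearMap.ext fun x => by simp only [wedge_apply, LinearMap.smul_apply, map_smul, smul_eq_mul]; module

/-- Conjugation of linear maps by an isometry. -/
noncomputable def conjMap (g : orthGroup Q) : (W →ₗ[F] W) →ₗ[F] (W →ₗ[F] W) where
  toFun X := g.1.toLinearMap ∘ₗ X ∘ₗ (g⁻¹).1.toLinearMap
  map_add' X Y := by ext; simp
  map_smul' r X := by ext; simp

theorem conjMap_apply (g : orthGroup Q) (X : W →ₗ[F] W) (x : W) :
    conjMap g X x = g.1 (X ((g⁻¹).1 x)) := rfl

theorem conjMap_mul (g g' : orthGroup Q) (X : W →ₗ[F] W) :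
    conjMap (g * g') X = conjMap g (conjMap g' X) :=
  LinearMap.ext fun x => by
    simp only [conjMap_apply, mul_inv_rev, orth_mul_apply]

theorem conjMap_wedge (g : orthGroup Q) (a b : W) : conjMap g (wedge Q a b) = wedge Q (g.1 a) (g.1 b) :=
  LinearMap.ext fun x => by
    rw [conjMap_apply, wedge_apply, wedge_apply, map_sub, map_smul, map_smul]
    conv_rhs => rw [← orth_apply_inv_self g x, orth_polB_map, orth_polB_map]

/-- A nonzero invariant additive set of skew maps contains all wedges with all multiples. -/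
theorem wedge_mem (hQ : (polB Q).Nondegenerate) (h2 : (2 : F) ≠ 0) (h3 : 3 ≤ Module.finrank F W)
    (hodd : Odd (Module.finrank F W)) (A : AddSubgroup (W →ₗ[F] W))
    (hskew : ∀ X ∈ A, ∀ a b, polB Q (X a) b = -polB Q a (X b))
    (hinv : ∀ g ∈ commutator (orthGroup Q), ∀ X ∈ A, conjMap g X ∈ A) (hne : A ≠ ⊥) (a b : W) (r : F) :
    r • wedge Q a b ∈ A := by
  classical
  haveI := Fintype.ofFinite F
  obtain ⟨p, hp⟩ := CharP.exists F
  haveI := hp
  haveI : Fact p.Prime := ⟨CharP.char_is_prime F p⟩
  haveI : Finite W := Module.finite_of_finite F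
  haveI : Finite (W →ₗ[F] W) := Module.finite_of_finite F
  obtain ⟨n, hn0, hn⟩ := exists_sing hQ h3
  obtain ⟨n', hpn⟩ := exists_hypPair hQ hn hn0
  have hnn := polB_self_zero hn
  -- a fixed point of the unipotent group at `n`
  set M := LinearMap.ker (polB Q n) with hM
  letI : MulAction (Multiplicative M) A :=
    { smul := fun m X => ⟨conjMap (eichler Q n (m.toAdd : W)) X.1,
        hinv _ (eichler_mem_comm hQ h2 h3 hn m.toAdd.2) _ X.2⟩
      one_smul := fun X => Subtype.ext (LinearMap.ext fun x => by
        show (eichler Q n (0 : W)).1 (X.1 (((eichler Q n (0 : W)))⁻¹.1 x)) = X.1 x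
        rw [eichler_zero hn, inv_one, orth_one_apply, orth_one_apply])
      mul_smul := fun m m' X => Subtype.ext (by
        show conjMap (eichler Q n ((m.toAdd : W) + (m'.toAdd : W))) X.1 =
          conjMap (eichler Q n (m.toAdd : W)) (conjMap (eichler Q n (m'.toAdd : W)) X.1)
        rw [← conjMap_mul, eichler_mul hn m.toAdd.2 m'.toAdd.2]) }
  have hpg : IsPGroup p (Multiplicative M) := by
    obtain ⟨k, -, hk⟩ := FiniteField.card F p
    refine IsPGroup.of_card (n := k * Module.finrank F M) ?_
    rw [Nat.card_congr Multiplicative.toAdd, Module.natCard_eq_pow_finrank (K := F), Nat.card_eq_fintype_card,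
      hk, ← pow_mul]
  have hpA : p ∣ Nat.card A := by
    obtain ⟨X, hX, hX0⟩ := A.ne_bot_iff_exists_ne_zero.1 hne |>.elim fun X h =>
      (⟨X.1, X.2, fun h' => h (Subtype.ext h')⟩ : ∃ X ∈ A, X ≠ 0)
    have e : addOrderOf (⟨X, hX⟩ : A) = p := addOrderOf_eq_prime
      (Subtype.ext (by rw [AddSubgroup.coe_nsmul, ← Nat.cast_smul_eq_nsmul F]; simp))
      (fun h => hX0 (congrArg Subtype.val h))
    rw [← e]; exact addOrderOf_dvd_natCard _
  obtain ⟨X₀, hfix, hX₀⟩ := hpg.exists_fixed_point_of_prime_dvd_card_of_fixed_point (α := A) hpA (a := 0)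
    (fun m => Subtype.ext (map_zero (conjMap (eichler Q n (m.toAdd : W)))))
  obtain ⟨X, hXA⟩ := X₀
  have hX0 : X ≠ 0 := fun h => hX₀ (Subtype.ext h.symm)
  have hcm : ∀ m, polB Q n m = 0 → ∀ x, X ((eichler Q n m).1 x) = (eichler Q n m).1 (X x) := by
    intro m hm x
    have h := congrArg Subtype.val (hfix (Multiplicative.ofAdd (⟨m, hm⟩ : M)))
    have h' := LinearMap.congr_fun (show conjMap (eichler Q n m) X = X from h) ((eichler Q n m).1 x)
    rw [conjMap_apply, orth_inv_apply_self] at h'
    exact h'.symm
  have hsk := hskew X hXA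
  have hXnn : polB Q (X n) n = 0 := by
    have := hsk n n
    rw [polB_comm n (X n)] at this
    exact (mul_eq_zero.1 (show (2 : F) * polB Q (X n) n = 0 by linear_combination this)).resolve_left h2
  obtain ⟨a₀, ha₀, ha₀', hQa₀⟩ := exists_aniso_orth_pair hQ h3 hpn
  have hXn : X n = 0 := by
    have horth : ∀ m, polB Q n m = 0 → polB Q (X n) m = 0 := fun m hm => by
      have := hcm m hm n
      rw [eichler_fix hn hm hnn hm, eichler_apply hn hm, hXnn] at this
      simp only [zero_smul, add_zero, mul_zero, sub_zero, eq_comm (a := X n), sub_eq_self] at this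
      exact (smul_eq_zero.1 this).resolve_right hn0
    set s := polB Q (X n) n' with hs
    have hXn' : X n = s • n := sub_eq_zero.1 (hQ.1 _ fun y => by
      have := horth (y - polB Q n y • n') (by simp [hpn.pair])
      simp only [map_sub, map_smul, smul_eq_mul, ← hs] at this
      simp only [map_sub, map_smul, LinearMap.sub_apply, LinearMap.smul_apply, smul_eq_mul]
      linear_combination this)
    suffices s = 0 by rw [hXn', this, zero_smul]
    have hn'n : polB Q (X n') n = -s := by rw [hsk, polB_comm]
    have hma : polB Q n (-a₀) = 0 := by rw [map_neg, ha₀, neg_zero]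
    have e1 := hcm a₀ ha₀ n'
    have e2 := hcm (-a₀) hma n'
    simp only [eichler_apply hn ha₀, eichler_apply hn hma, hpn.symm.pair, ha₀', map_neg, qmap_neg, map_add,
      map_sub, map_smul, hn'n, hXn'] at e1 e2
    have e3 : (2 * (2 * s * Q a₀)) • n = 0 := by linear_combination (norm := module) -e1 - e2
    have := (smul_eq_zero.1 e3).resolve_right hn0
    simpa [mul_eq_zero, h2, hQa₀] using this
  set w := X n' with hwdef
  have hwn : polB Q w n = 0 := by rw [hwdef, hsk, hXn, map_zero, neg_zero]
  have hwn' : polB Q w n' = 0 := by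
    have := hsk n' n'
    rw [polB_comm n' (X n')] at this
    exact (mul_eq_zero.1 (show (2 : F) * polB Q (X n') n' = 0 by linear_combination this)).resolve_left h2
  have hXm : ∀ m, polB Q n m = 0 → X m = -(polB Q w m) • n := by
    intro m hm
    have := hcm m hm n'
    rw [eichler_apply hn hm, eichler_apply hn hm, hpn.symm.pair, ← hwdef, hwn] at this
    simp only [map_add, map_sub, map_smul, hXn, ← hwdef, smul_zero, sub_zero, one_smul, zero_smul, add_zero,
      mul_zero] at this
    linear_combination (norm := module) this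
  have hXw : X = wedge Q n w := LinearMap.ext fun x => by
    have e := hXm (x - polB Q x n • n') (by rw [map_sub, map_smul, hpn.pair, polB_comm n x]; simp)
    rw [map_sub, map_smul, ← hwdef, map_sub, map_smul, hwn', smul_eq_mul, mul_zero, sub_zero] at e
    rw [wedge_apply, polB_comm x w]
    linear_combination (norm := module) e
  have hw0 : w ≠ 0 := fun h => hX0 (by
    rw [hXw, h]; exact LinearMap.ext fun x => by simp [wedge_apply])
  -- all multiples, using squares
  have hsq : ∀ s : F, s ≠ 0 → (s * s) • wedge Q n w ∈ A := by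
    intro s hs
    obtain ⟨g, hg, hgn, hgf⟩ := exists_scale_sq hpn hs
    have := hinv g hg X hXA
    rw [hXw, conjMap_wedge, hgn, hgf w hwn hwn', wedge_swap, wedge_smul, ← smul_neg, ← wedge_swap] at this
    exact this
  have hmul : ∀ s : F, s • wedge Q n w ∈ A := by
    intro s
    obtain ⟨x, y, hxy⟩ := exists_sum_sq_eq (one_ne_zero (α := F)) one_ne_zero s
    have hx : ∀ z : F, (z * z) • wedge Q n w ∈ A := fun z => by
      rcases eq_or_ne z 0 with rfl | hz
      · simp [A.zero_mem]
      · exact hsq z hz
    have := A.add_mem (hx x) (hx y)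
    rwa [← add_smul, show x * x + y * y = s by linear_combination hxy] at this
  -- the submodule of multiples
  let K : Submodule F (W →ₗ[F] W) :=
    { carrier := {X | ∀ s : F, s • X ∈ A}
      zero_mem' := fun s => by rw [smul_zero]; exact A.zero_mem
      add_mem' := fun hX hY s => by rw [smul_add]; exact A.add_mem (hX s) (hY s)
      smul_mem' := fun c X hX s => by rw [smul_smul]; exact hX _ }
  have hKinv : ∀ g ∈ commutator (orthGroup Q), ∀ X ∈ K, conjMap g X ∈ K := fun g hg X hX s => by
    rw [← map_smul]; exact hinv g hg _ (hX s)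
  let J : W → Submodule F W := fun z =>
    K.comap ({ toFun := fun b => wedge Q z b, map_add' := wedge_add z, map_smul' := fun s b => wedge_smul s z b } :
      W →ₗ[F] (W →ₗ[F] W))
  have hJ : ∀ z b, b ∈ J z ↔ wedge Q z b ∈ K := fun z b => Iff.rfl
  -- the orthogonal of `n`
  have hperp : ∀ m, polB Q n m = 0 → m ∈ J n := by
    set A' := (polB Q).orthogonal (Submodule.span F {n, n'}) with hA'
    have hAd := finrank_orth_add hQ (Submodule.span F ({n, n'} : Set W))
    have hsp : Module.finrank F (Submodule.span F ({n, n'} : Set W)) = 2 := by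
      have e : ({n, n'} : Set W) = Set.range ![n, n'] := by simp [Matrix.range_cons, Set.pair_comm]
      rw [e, finrank_span_eq_card hpn.linearIndependent]
      simp
    rw [hsp, ← hA'] at hAd
    have hnd := hpn.restrict_nondeg hQ
    rw [← hA'] at hnd
    have hwA : w ∈ A' := mem_orth_pair.2 ⟨by rw [polB_comm]; exact hwn, by rw [polB_comm]; exact hwn'⟩
    have hnJ : n ∈ J n := by rw [hJ, wedge_self]; exact K.zero_mem
    have hwJ : w ∈ J n := hmul
    have hA'J : A' ≤ J n := by
      by_cases hd3 : Module.finrank F W = 3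
      · intro z hz
        have h1 : Module.finrank F A' = 1 := by omega
        obtain ⟨s, hs⟩ := (finrank_eq_one_iff_of_nonzero' (⟨w, hwA⟩ : A') (fun h => hw0 (congrArg Subtype.val h))).1
          h1 ⟨z, hz⟩
        have hs' : s • w = z := congrArg Subtype.val hs
        exact hs' ▸ (J n).smul_mem s hwJ
      · obtain ⟨j, hj⟩ := hodd
        have hd : 3 ≤ Module.finrank F A' := by omega
        have hstep : ∀ z v : A', (z : W) ∈ J n → Q (v : W) = 0 → polB Q (z : W) (v : W) ≠ 0 → (v : W) ∈ J n := by
          intro z v hz hv hzv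
          have hv0 : v ≠ 0 := fun h => hzv (by rw [h]; simp)
          obtain ⟨v', hpv⟩ := exists_hypPair (Q := Q.restrict A') hnd hv hv0
          obtain ⟨m, hm, -, hQm⟩ := exists_aniso_orth_pair (Q := Q.restrict A') hnd hd hpv
          change polB Q (v : W) (m : W) = 0 at hm
          change Q (m : W) ≠ 0 at hQm
          have hfix : ∀ μ, polB Q (v : W) μ = 0 → polB Q n μ = 0 → (eichler Q (v : W) μ).1 n = n :=
            fun μ h1 h2' => eichler_fix hv h1 (by
              have := (mem_orth_pair.1 v.2).1; exact this) h2'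
          have hnm : polB Q n (m : W) = 0 := (mem_orth_pair.1 m.2).1
          have hm' : polB Q (v : W) (-(m : W)) = 0 := by rw [map_neg, hm, neg_zero]
          have i1 := hKinv _ (eichler_mem_comm hQ h2 h3 hv hm) (wedge Q n z) hz
          have i2 := hKinv _ (eichler_mem_comm hQ h2 h3 hv hm') (wedge Q n z) hz
          rw [conjMap_wedge, hfix _ hm hnm, ← hJ] at i1
          rw [conjMap_wedge, hfix _ hm' (by rw [map_neg, hnm, neg_zero]), ← hJ]
            at i2
          have e := (J n).sub_mem ((J n).add_mem i1 i2) ((J n).smul_mem (2 : F) hz)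
          rw [show (eichler Q (v : W) (m : W)).1 z + (eichler Q (v : W) (-(m : W))).1 z - (2 : F) • (z : W) =
            (-(2 * (Q (m : W) * polB Q (z : W) v))) • (v : W) by
              simp only [eichler_apply hv hm, eichler_apply hv hm', map_neg, qmap_neg]; module] at e
          exact ((J n).smul_mem_iff (neg_ne_zero.2 (mul_ne_zero h2 (mul_ne_zero hQm hzv)))).1 e
        obtain ⟨v₁, hv₁, hwv₁⟩ : ∃ v₁ : A', Q (v₁ : W) = 0 ∧ polB Q w (v₁ : W) ≠ 0 := by
          by_contra hcon
          push Not at hcon
          have h1 : polB (Q.restrict A') ⟨w, hwA⟩ = 0 :=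
            hom_zero_of_singular (Q := Q.restrict A') hnd h2 hd _ fun z hz => hcon z hz
          exact hw0 (congrArg Subtype.val (hnd.1 _ fun z => LinearMap.congr_fun h1 z))
        have hv₁J := hstep ⟨w, hwA⟩ v₁ hwJ hv₁ hwv₁
        have h1 : (J n).mkQ ∘ₗ A'.subtype = 0 :=
          hom_zero_of_nonorth (Q := Q.restrict A') hnd h2 hd _ (n := v₁) hv₁
            (fun h => hwv₁ (by rw [h]; simp)) fun z hz hz' => by
              simp only [LinearMap.comp_apply, Submodule.subtype_apply, Submodule.mkQ_apply,
                Submodule.Quotient.mk_eq_zero]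
              exact hstep v₁ z hv₁J hz hz'
        intro z hz
        simpa [Submodule.Quotient.mk_eq_zero] using LinearMap.congr_fun h1 ⟨z, hz⟩
    intro m hm
    rw [decomp_pair (Q := Q) n n' m, polB_comm m n, hm, zero_smul, add_zero]
    exact (J n).add_mem ((J n).smul_mem _ hnJ)
      (hA'J (mem_orth_pair.2 ⟨pairProj_left hpn m, pairProj_right hpn m⟩))
  -- every singular vector
  have hall : ∀ z, Q z = 0 → ∀ m, polB Q z m = 0 → m ∈ J z := by
    intro z hz m hm
    rcases eq_or_ne z 0 with rfl | hz0
    · rw [hJ, show wedge Q (0 : W) m = 0 from LinearMap.ext fun x => by simp [wedge_apply]]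
      exact K.zero_mem
    obtain ⟨g, hg, s, hs, hgn⟩ := move hQ h2 h3 hn hn0 hz hz0
    have hm' : polB Q n ((g⁻¹).1 m) = 0 := by
      rw [← orth_polB_map g, orth_apply_inv_self, hgn, map_smul, LinearMap.smul_apply, hm, smul_zero]
    have := hKinv g hg (wedge Q n ((g⁻¹).1 m)) (hperp _ hm')
    rw [conjMap_wedge, orth_apply_inv_self, hgn, wedge_swap, wedge_smul,
      ← smul_neg, ← wedge_swap] at this
    exact (K.smul_mem_iff hs).1 this
  have hsing : ∀ z z', Q z = 0 → Q z' = 0 → z' ∈ J z := by
    intro z z' hz hz'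
    by_cases h0 : polB Q z z' = 0
    · exact hall z hz z' h0
    set k := polB Q z z'
    set z₁ := k⁻¹ • z' with hz₁
    have hq : HypPair Q z z₁ := ⟨hz, by rw [hz₁, qmap_smul, hz', mul_zero],
      by rw [hz₁, map_smul, smul_eq_mul]; exact inv_mul_cancel₀ h0⟩
    obtain ⟨c, hc, hc', hQc⟩ := exists_aniso_orth_pair hQ h3 hq
    have i0 := hall z hz c hc
    have i1 := hKinv _ (eichler_mem_comm hQ h2 h3 hq.right hc') (wedge Q z c) i0
    have i2 := hall z₁ hq.right c hc'
    rw [conjMap_wedge] at i1
    rw [hJ] at i0 i2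
    have e := K.add_mem (K.sub_mem i0 i1) (K.smul_mem (Q c) i2)
    rw [show wedge Q z c - wedge Q ((eichler Q z₁ c).1 z) ((eichler Q z₁ c).1 c) + Q c • wedge Q z₁ c
        = (2 * Q c) • wedge Q z z₁ by
      ext x
      simp only [eichler_apply hq.right hc', hq.pair, polB_comm c z₁, hc', hc, polB_self,
        LinearMap.add_apply, LinearMap.sub_apply, LinearMap.smul_apply, wedge_apply, map_add, map_sub, map_smul,
        smul_eq_mul]
      module] at e
    have h1 : z₁ ∈ J z := (K.smul_mem_iff (mul_ne_zero h2 hQc)).1 e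
    exact ((J z).smul_mem_iff (inv_ne_zero h0)).1 h1
  have hfull : ∀ z, Q z = 0 → ∀ m, m ∈ J z := fun z hz m => by
    simpa [Submodule.Quotient.mk_eq_zero] using LinearMap.congr_fun
      (hom_zero_of_singular hQ h2 h3 (J z).mkQ fun z' hz' => by
        rw [Submodule.mkQ_apply, Submodule.Quotient.mk_eq_zero]; exact hsing z z' hz hz') m
  have h1 : b ∈ J a := by
    have hfull' : ∀ m, Q m = 0 → m ∈ J a := fun m hm => by
      rw [hJ, wedge_swap]; exact K.neg_mem (hfull m hm a)
    simpa [Submodule.Quotient.mk_eq_zero] using LinearMap.congr_fun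
      (hom_zero_of_singular hQ h2 h3 (J a).mkQ fun z' hz' => by
        rw [Submodule.mkQ_apply, Submodule.Quotient.mk_eq_zero]; exact hfull' z' hz') b
  exact h1 r

end H98.TO
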