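import Cfsg.Agent.H98.TensOrth.Step

/-!
Commutators in a three-dimensional orthogonal group with a nice axis.
-/

set_option autoImplicit false
set_option linter.unusedSectionVars false

namespace H98.TO

open H43

variable {F : Type*} [Field F] [Finite F] {W : Type*} [AddCommGroup W] [Module F W] [FiniteDimensional F W]
  {Q : QuadraticForm F W}

/-- A similitude of an odd-dimensional space has a square multiplier. -/
theorem simil_square (hQ : (polB Q).Nondegenerate) (hodd : Odd (Module.finrank F W)) (c : W →ₗ[F] W) {k : F}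
    (hk : k ≠ 0) (hc : ∀ x y, polB Q (c x) (c y) = k * polB Q x y) : ∃ r : F, k = r * r := by
  classical
  let b := Module.finBasis F W
  set G := LinearMap.BilinForm.toMatrix b (polB Q) with hG
  have hdet : G.det ≠ 0 := (LinearMap.BilinForm.nondegenerate_iff_det_ne_zero b).1 hQ
  have h1 : LinearMap.BilinForm.toMatrix b ((polB Q).comp c c) = k • G := by
    ext i j
    simp [hG, LinearMap.BilinForm.toMatrix_apply, hc]
  rw [LinearMap.BilinForm.toMatrix_comp (b := b) (c := b)] at h1
  have h2 := congrArg Matrix.det h1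
  rw [Matrix.det_mul, Matrix.det_mul, Matrix.det_transpose, Matrix.det_smul, Fintype.card_fin, ← hG] at h2
  obtain ⟨j, hj⟩ := hodd
  set δ := (LinearMap.toMatrix b b c).det
  have h3 : δ * δ = k ^ (2 * j + 1) := by
    rw [← hj]; exact mul_right_cancel₀ hdet (by linear_combination h2)
  refine ⟨δ / k ^ j, ?_⟩
  rw [div_mul_div_comm, h3, ← pow_add, eq_div_iff (pow_ne_zero _ hk)]
  ring

/-- A commutator with an axis whose orthogonal is isotropic. -/
theorem exists_axis (hQ : (polB Q).Nondegenerate) (h2 : (2 : F) ≠ 0) (h3 : Module.finrank F W = 3)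
    (hq : ∃ t : F, t ≠ 0 ∧ t * t ≠ 1) (d : orthGroup Q) {ν : W} (hν : Q ν = 0) (hν0 : ν ≠ 0)
    (hd : d.1 ν ∉ F ∙ ν) : ∃ δ ∈ commutator (orthGroup Q), ∃ e, e ≠ 0 ∧
      (d * δ * d⁻¹ * δ⁻¹).1 e = e ∧ d * δ * d⁻¹ * δ⁻¹ ≠ 1 ∧ ∃ c, c ≠ 0 ∧ Q c = 0 ∧ polB Q e c = 0 := by
  classical
  set β := polB Q ν (d.1 ν) with hβdef
  have hdν : Q (d.1 ν) = 0 := by rw [orth_qmap, hν]
  have hβ : β ≠ 0 := by
    intro h0
    have hsing : ∀ x ∈ Submodule.span F ({ν, d.1 ν} : Set W), Q x = 0 := fun x hx => by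
      obtain ⟨r, s, rfl⟩ := Submodule.mem_span_pair.1 hx
      rw [qmap_add_smul, qmap_smul, hν, hdν, map_smul, LinearMap.smul_apply, ← hβdef, h0]
      simp
    have h4 := two_mul_finrank_singular_le hQ _ hsing
    have h5 : Submodule.span F {ν} < Submodule.span F ({ν, d.1 ν} : Set W) :=
      lt_of_le_of_ne (Submodule.span_mono (by simp)) fun h => hd (by
        rw [h]; exact Submodule.subset_span (by simp))
    have h6 := Submodule.finrank_lt_finrank_of_lt h5
    rw [finrank_span_singleton hν0] at h6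
    omega
  set ν₂ := β⁻¹ • d.1 ν with hν₂
  have hp : HypPair Q ν ν₂ :=
    ⟨hν, by rw [hν₂, qmap_smul, hdν, mul_zero], by rw [hν₂, map_smul, ← hβdef, smul_eq_mul, inv_mul_cancel₀ hβ]⟩
  have hdν' : d.1 ν = β • ν₂ := by rw [hν₂, smul_smul, mul_inv_cancel₀ hβ, one_smul]
  obtain ⟨a, ha, ha', hQa⟩ := exists_aniso_orth_pair hQ (le_of_eq h3.symm) hp
  -- the image of the anisotropic vector
  obtain ⟨σ, ρ, hda⟩ : ∃ σ ρ : F, d.1 a = σ • a + ρ • ν₂ := by
    refine ⟨polB Q (d.1 a) a / (2 * Q a), polB Q (d.1 a) ν, sub_eq_zero.1 ?_⟩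
    set z := d.1 a - ((polB Q (d.1 a) a / (2 * Q a)) • a + polB Q (d.1 a) ν • ν₂) with hz
    have h1 : polB Q (d.1 a) ν₂ = 0 := by
      rw [hν₂, map_smul, orth_polB_map, polB_comm, ha, smul_zero]
    have z1 : polB Q ν z = 0 := by
      simp [hz, ha, hp.pair, polB_comm ν (d.1 a)]
    have z2 : polB Q ν₂ z = 0 := by
      simp [hz, ha', polB_self, hp.right, polB_comm ν₂ (d.1 a), h1]
    have z3 : polB Q a z = 0 := by
      simp only [hz, map_sub, map_add, map_smul, smul_eq_mul, polB_self, polB_comm a ν₂, ha',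
        polB_comm a (d.1 a), mul_zero, add_zero]
      field_simp
      ring
    by_contra hz0
    have hsing : ∀ x, polB Q ν x = 0 → polB Q ν₂ x = 0 → ∃ r : F, x = r • a := by
      intro x x1 x2
      set A := (polB Q).orthogonal (Submodule.span F ({ν, ν₂} : Set W)) with hA
      have hAd : Module.finrank F A = 1 := by
        have h4 := finrank_orth_add hQ (Submodule.span F ({ν, ν₂} : Set W))
        have hsp : Module.finrank F (Submodule.span F ({ν, ν₂} : Set W)) = 2 := by
          have e : ({ν, ν₂} : Set W) = Set.range ![ν, ν₂] := by simp [Matrix.range_cons, Set.pair_comm]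
          rw [e, finrank_span_eq_card hp.linearIndependent]
          simp
        rw [hsp, ← hA] at h4
        omega
      obtain ⟨r, hr⟩ := (finrank_eq_one_iff_of_nonzero' (⟨a, mem_orth_pair.2 ⟨ha, ha'⟩⟩ : A)
        (fun h => hQa (by rw [show a = 0 from congrArg Subtype.val h]; exact QuadraticMap.map_zero Q))).1 hAd
        ⟨x, mem_orth_pair.2 ⟨x1, x2⟩⟩
      exact ⟨r, (congrArg Subtype.val hr).symm⟩
    obtain ⟨r, hr⟩ := hsing z z1 z2
    rw [hr, map_smul, polB_self, smul_eq_mul, mul_eq_zero] at z3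
    exact hz0 (by rw [hr, z3.resolve_right (mul_ne_zero h2 hQa), zero_smul])
  have hσ : σ ≠ 0 := by
    intro h0
    have := orth_qmap d a
    rw [hda, h0, zero_smul, zero_add, qmap_smul, hp.right, mul_zero] at this
    exact hQa this.symm
  set τ := β * σ with hτ
  have hτ0 : τ ≠ 0 := mul_ne_zero hβ hσ
  set κ := Q a with hκ
  obtain ⟨K, hK⟩ : ∃ K, K = 4 * κ / τ := ⟨_, rfl⟩
  obtain ⟨A, hA, hAK⟩ : ∃ A : F, A ≠ 0 ∧ A * A ≠ K := by
    obtain ⟨t, ht, ht1⟩ := hq
    by_cases h : (1 : F) * 1 = K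
    · exact ⟨t, ht, fun h' => ht1 (by rw [h', ← h, one_mul])⟩
    · exact ⟨1, one_ne_zero, h⟩
  obtain ⟨γ, hγdef⟩ : ∃ γ, γ = (K / A - A) / (2 * κ) := ⟨_, rfl⟩
  have hγ : γ ≠ 0 := by
    rw [hγdef, div_ne_zero_iff]
    refine ⟨sub_ne_zero.2 fun h => hAK ?_, mul_ne_zero h2 hQa⟩
    rw [div_eq_iff hA] at h
    exact h.symm
  have hga : polB Q ν (γ • a) = 0 := by rw [map_smul, ha, smul_zero]
  have hga' : polB Q ν₂ ((τ * γ) • a) = 0 := by rw [map_smul, ha', smul_zero]
  have hconj : d * eichler Q ν (γ • a) * d⁻¹ = eichler Q ν₂ ((τ * γ) • a) := by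
    refine orth_ext fun x => ?_
    have hn : polB Q (β • ν₂) (γ • (σ • a + ρ • ν₂)) = 0 := by
      simp [map_smul, ha', polB_self, hp.right]
    rw [eichler_conj d hν hga, map_smul, hdν', hda,
      eichler_apply (by rw [qmap_smul, hp.right, mul_zero]) hn, eichler_apply hp.right hga']
    simp only [map_add, map_smul, smul_eq_mul, qmap_smul, qmap_add, hp.right, LinearMap.smul_apply,
      polB_comm a ν₂, ha', hτ]
    module
  refine ⟨eichler Q ν (γ • a), eichler_mem_comm hQ h2 (le_of_eq h3.symm) hν hga, ?_⟩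
  rw [hconj, eichler_inv hν hga]
  set e := (τ * γ)⁻¹ • ν + γ⁻¹ • ν₂ + (2 : F)⁻¹ • a with he
  have hga2 : polB Q ν (-(γ • a)) = 0 := by rw [map_neg, hga, neg_zero]
  have hga2' : polB Q ν₂ (-((τ * γ) • a)) = 0 := by rw [map_neg, hga', neg_zero]
  have hτγ : τ * γ ≠ 0 := mul_ne_zero hτ0 hγ
  have hhalf : (2 : F)⁻¹ * 2 = 1 := inv_mul_cancel₀ h2
  have hfix1 : (eichler Q ν (-(γ • a))).1 e = e - a := by
    rw [eichler_apply hν hga2, he]
    simp only [map_add, map_smul, map_neg, qmap_neg, qmap_smul, LinearMap.add_apply, LinearMap.smul_apply,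
      smul_eq_mul, ha, ha', hp.symm.pair, polB_self, hν, ← hκ, polB_comm a ν]
    match_scalars <;> field_simp <;> ring
  have hfix2 : (eichler Q ν₂ (-((τ * γ) • a))).1 e = e - a := by
    rw [eichler_apply hp.right hga2', he]
    simp only [map_add, map_smul, map_neg, qmap_neg, qmap_smul, LinearMap.add_apply, LinearMap.smul_apply,
      smul_eq_mul, ha, ha', hp.pair, polB_self, hp.right, ← hκ, polB_comm a ν₂]
    match_scalars <;> field_simp <;> ring
  refine ⟨e, fun h0 => ?_, ?_, fun h1 => ?_, ?_⟩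
  · have := congrArg (fun z => polB Q ν z) h0
    simp only [he, map_add, map_smul, polB_self, hν, hp.pair, ha, smul_eq_mul, mul_zero, zero_add, add_zero,
      mul_one, map_zero] at this
    exact inv_ne_zero hγ this
  · rw [orth_mul_apply, hfix1, ← hfix2, ← eichler_inv hp.right hga', orth_apply_inv_self]
  · have := congrArg (fun g : orthGroup Q => polB Q (g.1 ν) a) h1
    simp only [orth_mul_apply, orth_one_apply, eichler_fix hν hga2 (polB_self_zero hν) hga2,
      eichler_apply hp.right hga'] at this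
    simp only [map_add, map_sub, map_smul, LinearMap.add_apply, LinearMap.sub_apply, LinearMap.smul_apply,
      smul_eq_mul, hp.pair, ha, ha', polB_self, ← hκ, mul_zero, zero_add, sub_zero,
      one_mul] at this
    exact mul_ne_zero hτγ (mul_ne_zero h2 hQa) this
  · refine ⟨(A / 2) • ν + (-κ / (A / 2)) • ν₂ + a, fun h0 => ?_, ?_, ?_⟩
    · have := congrArg (fun z => polB Q a z) h0
      simp only [map_add, map_smul, polB_comm a ν, polB_comm a ν₂, ha, ha', polB_self, ← hκ, smul_eq_mul,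
        mul_zero, zero_add, map_zero] at this
      exact mul_ne_zero h2 hQa this
    · rw [qmap_add, qmap_add_smul, qmap_smul, hν, hp.right, ← hκ]
      simp only [map_smul, map_add, LinearMap.add_apply, LinearMap.smul_apply, smul_eq_mul, hp.pair, ha, ha']
      field_simp
      ring
    · simp only [he, map_add, map_smul, LinearMap.add_apply, LinearMap.smul_apply, smul_eq_mul, hp.pair,
        hp.symm.pair, ha, ha', polB_self, hν, hp.right, ← hκ, polB_comm a ν, polB_comm a ν₂]
      have hγA : γ * (2 * κ) = K / A - A := by rw [hγdef]; exact div_mul_cancel₀ _ (mul_ne_zero h2 hQa)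
      have hKA : K / A * A = K := div_mul_cancel₀ _ hA
      have hKτ : K * τ = 4 * κ := by rw [hK]; exact div_mul_cancel₀ _ hτ0
      have hid : τ * (A * A) + 2 * τ * κ * γ * A - 4 * κ = 0 := by
        linear_combination τ * A * hγA + τ * hKA + hKτ
      have hA2 : A / 2 ≠ 0 := div_ne_zero hA h2
      field_simp
      linear_combination 2 * hid

end H98.TO
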