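import Cfsg.Agent.H98.TensOrth.Space

/-!
An orthogonal space as the tensor product of two odd-dimensional orthogonal spaces: contractions, product
isometries and Siegel elements.
-/

set_option autoImplicit false
set_option linter.unusedSectionVars false

namespace H98.TO

open H43
open scoped TensorProduct

/-- A quadratic space which is the product of two quadratic spaces of odd dimension. -/
structure OS (F : Type*) [Field F] (L : Type*) [AddCommGroup L] [Module F L] (S : Type*) [AddCommGroup S]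
    [Module F S] (V : Type*) [AddCommGroup V] [Module F V] where
  Φ : (L ⊗[F] S) ≃ₗ[F] V
  QL : QuadraticForm F L
  QS : QuadraticForm F S
  Q : QuadraticForm F V
  ndL : (polB QL).Nondegenerate
  ndS : (polB QS).Nondegenerate
  nd : (polB Q).Nondegenerate
  pure : ∀ a b x y, polB Q (Φ (a ⊗ₜ x)) (Φ (b ⊗ₜ y)) = polB QL a b * polB QS x y
  two : (2 : F) ≠ 0
  oddL : Odd (Module.finrank F L)
  oddS : Odd (Module.finrank F S)
  three : 3 ≤ Module.finrank F S
  gap : Module.finrank F S + 2 ≤ Module.finrank F L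
  excl : ¬ (Nat.card F = 3 ∧ Module.finrank F S = 3)

variable {F : Type*} [Field F] [Finite F]
  {L : Type*} [AddCommGroup L] [Module F L] [FiniteDimensional F L]
  {S : Type*} [AddCommGroup S] [Module F S] [FiniteDimensional F S]
  {V : Type*} [AddCommGroup V] [Module F V] [FiniteDimensional F V]

namespace OS

variable (d : OS F L S V)

include d in
theorem five : 5 ≤ Module.finrank F L := by have := d.three; have := d.gap; omega

include d in
theorem threeL : 3 ≤ Module.finrank F L := by have := d.five; omega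

/-- Pure tensors. -/
def t : L →ₗ[F] S →ₗ[F] V := (TensorProduct.mk F L S).compr₂ d.Φ.toLinearMap

theorem t_apply (a : L) (x : S) : d.t a x = d.Φ (a ⊗ₜ x) := rfl

theorem f_t (a b : L) (x y : S) : polB d.Q (d.t a x) (d.t b y) = polB d.QL a b * polB d.QS x y :=
  d.pure a b x y

theorem Q_t (a : L) (x : S) : d.Q (d.t a x) = 2 * (d.QL a * d.QS x) := by
  have h := d.f_t a a x x
  rw [polB_self, polB_self, polB_self] at h
  refine mul_left_cancel₀ d.two ?_
  linear_combination h

theorem Q_eq_iff (v w : V) : d.Q v = d.Q w ↔ polB d.Q v v = polB d.Q w w := by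
  rw [polB_self, polB_self, mul_right_inj' d.two]

/-- Equality on pure tensors determines a linear map. -/
theorem hom_ext {M : Type*} [AddCommGroup M] [Module F M] {g h : V →ₗ[F] M}
    (hgh : ∀ a x, g (d.t a x) = h (d.t a x)) : g = h := by
  have : g ∘ₗ d.Φ.toLinearMap = h ∘ₗ d.Φ.toLinearMap := TensorProduct.ext' fun a x => hgh a x
  exact LinearMap.ext fun v => by simpa using LinearMap.congr_fun this (d.Φ.symm v)

theorem equiv_ext {g h : V ≃ₗ[F] V} (hgh : ∀ a x, g (d.t a x) = h (d.t a x)) : g = h :=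
  LinearEquiv.toLinearMap_injective (d.hom_ext hgh)

theorem orth_ext' {g h : orthGroup d.Q} (hgh : ∀ a x, g.1 (d.t a x) = h.1 (d.t a x)) : g = h :=
  Subtype.ext (d.equiv_ext hgh)

include d in
theorem finrank_eq : Module.finrank F V = Module.finrank F L * Module.finrank F S := by
  rw [← d.Φ.finrank_eq, Module.finrank_tensorProduct]

/-- The contraction with `u`. -/
noncomputable def C (u : L) : V →ₗ[F] S :=
  ((polB d.QS).toDual d.ndS).symm.toLinearMap ∘ₗ (polB d.Q).compl₂ (d.t u)

theorem b_C (u : L) (v : V) (y : S) : polB d.QS (d.C u v) y = polB d.Q v (d.t u y) :=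
  LinearMap.BilinForm.apply_toDual_symm_apply (hB := d.ndS) _ _

theorem b_C' (u : L) (v : V) (y : S) : polB d.QS y (d.C u v) = polB d.Q v (d.t u y) := by
  rw [polB_comm, d.b_C]

theorem S_ext {x x' : S} (h : ∀ y, polB d.QS x y = polB d.QS x' y) : x = x' :=
  sub_eq_zero.1 (d.ndS.1 _ fun y => by rw [map_sub, LinearMap.sub_apply, h, sub_self])

theorem L_ext {x x' : L} (h : ∀ y, polB d.QL x y = polB d.QL x' y) : x = x' :=
  sub_eq_zero.1 (d.ndL.1 _ fun y => by rw [map_sub, LinearMap.sub_apply, h, sub_self])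

theorem C_t (u a : L) (x : S) : d.C u (d.t a x) = polB d.QL a u • x :=
  d.S_ext fun y => by rw [d.b_C, d.f_t, map_smul, LinearMap.smul_apply, smul_eq_mul]

theorem C_add (u w : L) (v : V) : d.C (u + w) v = d.C u v + d.C w v :=
  d.S_ext fun y => by simp only [d.b_C, map_add, LinearMap.add_apply]

theorem C_smul (k : F) (u : L) (v : V) : d.C (k • u) v = k • d.C u v :=
  d.S_ext fun y => by simp only [d.b_C, map_smul, LinearMap.smul_apply]

/-- The contraction, as a linear map in the point. -/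
noncomputable def Cl (v : V) : L →ₗ[F] S where
  toFun u := d.C u v
  map_add' u w := d.C_add u w v
  map_smul' k u := d.C_smul k u v

theorem Cl_apply (v : V) (u : L) : d.Cl v u = d.C u v := rfl

theorem C_zero (v : V) : d.C 0 v = 0 := map_zero (d.Cl v)

theorem C_neg (u : L) (v : V) : d.C (-u) v = -d.C u v := map_neg (d.Cl v) u

theorem C_sub (u w : L) (v : V) : d.C (u - w) v = d.C u v - d.C w v := map_sub (d.Cl v) u w

/-- The contraction on the other side. -/
noncomputable def D (e : S) : V →ₗ[F] L :=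
  ((polB d.QL).toDual d.ndL).symm.toLinearMap ∘ₗ (polB d.Q).compl₂ (d.t.flip e)

theorem b_D (e : S) (v : V) (a : L) : polB d.QL (d.D e v) a = polB d.Q v (d.t a e) :=
  LinearMap.BilinForm.apply_toDual_symm_apply (hB := d.ndL) _ _

theorem D_t (e : S) (a : L) (x : S) : d.D e (d.t a x) = polB d.QS x e • a :=
  d.L_ext fun y => by rw [d.b_D, d.f_t, map_smul, LinearMap.smul_apply, smul_eq_mul, mul_comm]

theorem eq_zero_of_C {v : V} (h : ∀ u, d.C u v = 0) : v = 0 := by
  refine d.nd.1 v fun w => ?_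
  have : polB d.Q v = 0 := d.hom_ext fun a x => by
    rw [← d.b_C, h, map_zero, LinearMap.zero_apply, LinearMap.zero_apply]
  rw [this, LinearMap.zero_apply]

theorem ext_C {v w : V} (h : ∀ u, d.C u v = d.C u w) : v = w :=
  sub_eq_zero.1 (d.eq_zero_of_C fun u => by rw [map_sub, h, sub_self])

theorem exists_B_one {u : L} (hu : u ≠ 0) : ∃ w, polB d.QL u w = 1 := exists_polB_eq d.ndL hu 1

theorem t_injective {u : L} (hu : u ≠ 0) : Function.Injective (d.t u) := by
  obtain ⟨w, hw⟩ := d.exists_B_one hu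
  intro x y h
  have := congrArg (d.C w) h
  rwa [d.C_t, d.C_t, hw, one_smul, one_smul] at this

theorem t_ne_zero {u : L} (hu : u ≠ 0) {x : S} (hx : x ≠ 0) : d.t u x ≠ 0 := fun h =>
  hx (d.t_injective hu (h.trans (map_zero (d.t u)).symm))

theorem t_left_ne {a b : L} {x : S} (hx : x ≠ 0) (h : d.t a x = d.t b x) : a = b := by
  obtain ⟨e, he⟩ := exists_polB_eq d.ndS hx 1
  have := congrArg (d.D e) h
  rwa [d.D_t, d.D_t, he, one_smul, one_smul] at this

/-- The column of `u`. -/
def W (u : L) : Submodule F V := LinearMap.range (d.t u)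

theorem t_mem_W (u : L) (x : S) : d.t u x ∈ d.W u := ⟨x, rfl⟩

theorem finrank_W {u : L} (hu : u ≠ 0) : Module.finrank F (d.W u) = Module.finrank F S :=
  LinearMap.finrank_range_of_inj (d.t_injective hu)

theorem W_smul {u : L} {r : F} (hr : r ≠ 0) : d.W (r • u) = d.W u := by
  apply le_antisymm
  · rintro _ ⟨x, rfl⟩
    exact ⟨r • x, by simp⟩
  · rintro _ ⟨x, rfl⟩
    exact ⟨r⁻¹ • x, by simp [smul_smul, hr]⟩

/-- Membership in a column by contractions with the orthogonal of its point. -/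
theorem mem_W {u : L} (hu : u ≠ 0) {v : V} (h : ∀ w, polB d.QL u w = 0 → d.C w v = 0) : v ∈ d.W u := by
  obtain ⟨w, hw⟩ := d.exists_B_one hu
  refine ⟨d.C w v, d.ext_C fun e => ?_⟩
  have h1 := h (e - polB d.QL u e • w) (by rw [map_sub, map_smul, hw, smul_eq_mul, mul_one, sub_self])
  rw [d.C_sub, d.C_smul, sub_eq_zero] at h1
  rw [d.C_t, h1]

theorem C_W {u : L} {v : V} (hv : v ∈ d.W u) {w : L} (h : polB d.QL u w = 0) : d.C w v = 0 := by
  obtain ⟨x, rfl⟩ := hv
  rw [d.C_t, h, zero_smul]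

theorem perp_W {u : L} {v : V} (h : d.C u v = 0) {z : V} (hz : z ∈ d.W u) : polB d.Q v z = 0 := by
  obtain ⟨x, rfl⟩ := hz
  rw [← d.b_C, h, map_zero, LinearMap.zero_apply]

theorem W_isotropic {u : L} (hu : d.QL u = 0) {v w : V} (hv : v ∈ d.W u) (hw : w ∈ d.W u) :
    polB d.Q v w = 0 :=
  d.perp_W (d.C_W hv (polB_self_zero hu)) hw

/-- Equality on the orthogonal of a column is detected on pure tensors. -/
theorem ker_ext {u : L} (hu : u ≠ 0) {M : Type*} [AddCommGroup M] [Module F M] {g h : V →ₗ[F] M}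
    (hgh : ∀ a x, polB d.QL u a = 0 → g (d.t a x) = h (d.t a x)) {v : V} (hv : d.C u v = 0) :
    g v = h v := by
  obtain ⟨w, hw⟩ := d.exists_B_one hu
  set P : V →ₗ[F] V := LinearMap.id - d.t w ∘ₗ d.C u with hP
  have e : g ∘ₗ P = h ∘ₗ P := d.hom_ext fun a x => by
    have e1 : P (d.t a x) = d.t (a - polB d.QL a u • w) x := by
      simp [hP, d.C_t]
    rw [LinearMap.comp_apply, LinearMap.comp_apply, e1]
    exact hgh _ _ (by rw [map_sub, map_smul, hw, polB_comm u a, smul_eq_mul, mul_one, sub_self])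
  have e2 : P v = v := by simp [hP, hv]
  have := LinearMap.congr_fun e v
  rwa [LinearMap.comp_apply, LinearMap.comp_apply, e2] at this

/-- The product of two automorphisms. -/
noncomputable def tens (a : L ≃ₗ[F] L) (c : S ≃ₗ[F] S) : V ≃ₗ[F] V :=
  d.Φ.symm ≪≫ₗ TensorProduct.congr a c ≪≫ₗ d.Φ

theorem tens_t (a : L ≃ₗ[F] L) (c : S ≃ₗ[F] S) (e : L) (x : S) :
    d.tens a c (d.t e x) = d.t (a e) (c x) := by
  simp [tens, t_apply]

theorem tens_mul (a a' : L ≃ₗ[F] L) (c c' : S ≃ₗ[F] S) :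
    d.tens a c * d.tens a' c' = d.tens (a * a') (c * c') :=
  d.equiv_ext fun e x => by
    show d.tens a c (d.tens a' c' (d.t e x)) = _
    rw [d.tens_t, d.tens_t, d.tens_t]
    rfl

theorem tens_one : d.tens 1 1 = 1 := d.equiv_ext fun e x => by rw [d.tens_t]; rfl

theorem tens_inv (a : L ≃ₗ[F] L) (c : S ≃ₗ[F] S) : (d.tens a c)⁻¹ = d.tens a⁻¹ c⁻¹ :=
  inv_eq_of_mul_eq_one_right (by rw [d.tens_mul, mul_inv_cancel, mul_inv_cancel, d.tens_one])

theorem tens_isom {a : L ≃ₗ[F] L} {c : S ≃ₗ[F] S} {k l : F} (hkl : k * l = 1)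
    (ha : ∀ x y, polB d.QL (a x) (a y) = k * polB d.QL x y)
    (hc : ∀ x y, polB d.QS (c x) (c y) = l * polB d.QS x y) : d.tens a c ∈ orthGroup d.Q := by
  have : (polB d.Q).compl₁₂ (d.tens a c).toLinearMap (d.tens a c).toLinearMap = polB d.Q := by
    refine d.hom_ext fun e x => d.hom_ext fun e' y => ?_
    show polB d.Q (d.tens a c (d.t e x)) (d.tens a c (d.t e' y)) = _
    rw [d.tens_t, d.tens_t, d.f_t, d.f_t, ha, hc]
    linear_combination polB d.QL e e' * polB d.QS x y * hkl
  exact fun v => (d.Q_eq_iff _ _).2 (LinearMap.congr_fun (LinearMap.congr_fun this v) v)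

/-- Product automorphisms. -/
def IsT (g : orthGroup d.Q) : Prop := ∃ a c, g.1 = d.tens a c

variable {d}

theorem IsT.mul {g h : orthGroup d.Q} (hg : d.IsT g) (hh : d.IsT h) : d.IsT (g * h) := by
  obtain ⟨a, c, hg⟩ := hg
  obtain ⟨a', c', hh⟩ := hh
  exact ⟨_, _, by rw [Subgroup.coe_mul, hg, hh, d.tens_mul]⟩

theorem IsT.inv {g : orthGroup d.Q} (hg : d.IsT g) : d.IsT g⁻¹ := by
  obtain ⟨a, c, hg⟩ := hg
  exact ⟨_, _, by rw [Subgroup.coe_inv, hg, d.tens_inv]⟩

variable (d)

theorem isT_one : d.IsT 1 := ⟨1, 1, d.tens_one.symm⟩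

theorem IsT_conj_iff {h g : orthGroup d.Q} (hh : d.IsT h) : d.IsT (h * g * h⁻¹) ↔ d.IsT g := by
  refine ⟨fun hc => ?_, fun hg => (hh.mul hg).mul hh.inv⟩
  have := (hh.inv.mul hc).mul hh
  rwa [show h⁻¹ * (h * g * h⁻¹) * h = g by group] at this

theorem IsT_mul_left_iff {h g : orthGroup d.Q} (hh : d.IsT h) : d.IsT (h * g) ↔ d.IsT g := by
  refine ⟨fun hc => ?_, fun hg => hh.mul hg⟩
  have := hh.inv.mul hc
  rwa [inv_mul_cancel_left] at this

/-- Isometries of the first factor acting on the product. -/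
noncomputable def liftL : orthGroup d.QL →* orthGroup d.Q where
  toFun g := ⟨d.tens g.1 1, d.tens_isom (one_mul 1) (fun x y => by rw [one_mul]; exact polB_map g.2 x y)
    fun x y => by simp⟩
  map_one' := Subtype.ext d.tens_one
  map_mul' g h := Subtype.ext (by simp [d.tens_mul])

/-- Isometries of the second factor acting on the product. -/
noncomputable def liftS : orthGroup d.QS →* orthGroup d.Q where
  toFun g := ⟨d.tens 1 g.1, d.tens_isom (one_mul 1) (fun x y => by simp)
    fun x y => by rw [one_mul]; exact polB_map g.2 x y⟩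
  map_one' := Subtype.ext d.tens_one
  map_mul' g h := Subtype.ext (by simp [d.tens_mul])

theorem liftL_t (g : orthGroup d.QL) (a : L) (x : S) : (d.liftL g).1 (d.t a x) = d.t (g.1 a) x :=
  d.tens_t g.1 1 a x

theorem liftS_t (g : orthGroup d.QS) (a : L) (x : S) : (d.liftS g).1 (d.t a x) = d.t a (g.1 x) :=
  d.tens_t 1 g.1 a x

theorem liftL_isT (g : orthGroup d.QL) : d.IsT (d.liftL g) := ⟨g.1, 1, rfl⟩

theorem liftS_isT (g : orthGroup d.QS) : d.IsT (d.liftS g) := ⟨1, g.1, rfl⟩

theorem liftL_mem_comm {g : orthGroup d.QL} (hg : g ∈ commutator (orthGroup d.QL)) :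
    d.liftL g ∈ commutator (orthGroup d.Q) := by
  rw [commutator_def] at hg ⊢
  exact Subgroup.commutator_mono le_top le_top
    (Subgroup.map_commutator ⊤ ⊤ d.liftL ▸ Subgroup.mem_map_of_mem d.liftL hg)

theorem liftS_mem_comm {g : orthGroup d.QS} (hg : g ∈ commutator (orthGroup d.QS)) :
    d.liftS g ∈ commutator (orthGroup d.Q) := by
  rw [commutator_def] at hg ⊢
  exact Subgroup.commutator_mono le_top le_top
    (Subgroup.map_commutator ⊤ ⊤ d.liftS ▸ Subgroup.mem_map_of_mem d.liftS hg)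

theorem liftL_negOrth : d.liftL (negOrth d.QL) = negOrth d.Q :=
  d.orth_ext' fun a x => by rw [d.liftL_t, negOrth_apply, negOrth_apply, map_neg, LinearMap.neg_apply]

/-- The Siegel element of `u` and an orthogonal `w`. -/
noncomputable def sg (u w : L) : orthGroup d.Q := d.liftL (eichler d.QL u w)

theorem sg_t {u w : L} (hu : d.QL u = 0) (h : polB d.QL u w = 0) (a : L) (x : S) :
    (d.sg u w).1 (d.t a x) = d.t a x + d.t w (polB d.QL a u • x) - d.t u (polB d.QL a w • x)
      - d.t u ((d.QL w * polB d.QL a u) • x) := by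
  rw [sg, d.liftL_t, eichler_apply hu h]
  simp only [map_add, map_sub, map_smul, LinearMap.add_apply, LinearMap.sub_apply, LinearMap.smul_apply]

theorem sg_apply {u w : L} (hu : d.QL u = 0) (h : polB d.QL u w = 0) (v : V) :
    (d.sg u w).1 v = v + d.t w (d.C u v) - d.t u (d.C w v) - d.QL w • d.t u (d.C u v) := by
  have : (d.sg u w).1.toLinearMap = LinearMap.id + d.t w ∘ₗ d.C u - d.t u ∘ₗ d.C w
      - d.QL w • (d.t u ∘ₗ d.C u) := d.hom_ext fun a x => by
    show (d.sg u w).1 (d.t a x) = _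
    rw [d.sg_t hu h]
    simp only [LinearMap.add_apply, LinearMap.sub_apply, LinearMap.smul_apply, LinearMap.id_apply,
      LinearMap.comp_apply, d.C_t, map_smul, smul_smul, mul_comm]
  exact LinearMap.congr_fun this v

theorem sg_mul {u w w' : L} (hu : d.QL u = 0) (h : polB d.QL u w = 0) (h' : polB d.QL u w' = 0) :
    d.sg u w * d.sg u w' = d.sg u (w + w') := by
  rw [sg, sg, sg, ← map_mul, eichler_mul hu h h']

theorem sg_inv {u w : L} (hu : d.QL u = 0) (h : polB d.QL u w = 0) : (d.sg u w)⁻¹ = d.sg u (-w) := by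
  rw [sg, sg, ← map_inv, eichler_inv hu h]

theorem sg_isT (u w : L) : d.IsT (d.sg u w) := d.liftL_isT _

theorem sg_mem_comm {u w : L} (hu : d.QL u = 0) (h : polB d.QL u w = 0) :
    d.sg u w ∈ commutator (orthGroup d.Q) :=
  d.liftL_mem_comm (eichler_mem_comm d.ndL d.two d.threeL hu h)

theorem sg_smul {u w : L} (hu : d.QL u = 0) (h : polB d.QL u w = 0) {r : F} (hr : r ≠ 0) :
    d.sg (r • u) (r⁻¹ • w) = d.sg u w := by
  rw [sg, sg, eichler_smul_left hu h hr]

end OS

end H98.TO
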