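import Cfsg.Agent.H98.TensOrth.Space

/-!
A self-adjoint map commuting with its conjugates under Eichler transformations is scalar.
-/

set_option autoImplicit false
set_option linter.unusedSectionVars false

namespace H98.TO

open H43

variable {F : Type*} [Field F] [Finite F] {W : Type*} [AddCommGroup W] [Module F W] [FiniteDimensional F W]
  {Q : QuadraticForm F W}

theorem scalar_of_comm (hQ : (polB Q).Nondegenerate) (h2 : (2 : F) ≠ 0) (h3 : 3 ≤ Module.finrank F W)
    (hq : (∃ t : F, t ≠ 0 ∧ t * t ≠ 1) ∨ 5 ≤ Module.finrank F W) (T : W →ₗ[F] W)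
    (hT : ∀ x y, polB Q (T x) y = polB Q x (T y))
    (hc : ∀ n m, Q n = 0 → polB Q n m = 0 → ∀ x,
      T ((eichler Q n m).1 (T ((eichler Q n (-m)).1 x))) =
        (eichler Q n m).1 (T ((eichler Q n (-m)).1 (T x)))) :
    ∃ r : F, ∀ x, T x = r • x := by
  refine selfAdj_scalar hQ h2 h3 hq T hT fun n hn => ?_
  rcases eq_or_ne n 0 with rfl | hn0
  · simp
  by_contra hτ
  -- the even part of the conjugate
  let G : W → W → W := fun m x =>
    T x - (Q m * polB Q x n) • T n
      + (polB Q x m * polB Q (T n) n - polB Q x n * polB Q (T m) n) • m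
      - (polB Q x m * polB Q (T n) m - polB Q x n * polB Q (T m) m) • n
      - (Q m * polB Q (T x) n) • n
      + (Q m * Q m * polB Q x n * polB Q (T n) n) • n
  have hG : ∀ m, polB Q n m = 0 → ∀ x, T (G m x) = G m (T x) := by
    intro m hm x
    have hm' : polB Q n (-m) = 0 := by rw [map_neg, hm, neg_zero]
    have key : ∀ y, (2 : F) • G m y =
        (eichler Q n m).1 (T ((eichler Q n (-m)).1 y)) + (eichler Q n (-m)).1 (T ((eichler Q n m).1 y)) := by
      intro y
      simp only [G, eichler_apply hn hm, eichler_apply hn hm', map_add, map_sub, map_smul, map_neg, qmap_neg,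
        LinearMap.add_apply, LinearMap.sub_apply, LinearMap.smul_apply, LinearMap.neg_apply, smul_eq_mul]
      module
    have e := congrArg₂ (· + ·) (hc n m hn hm x) (hc n (-m) hn hm' x)
    simp only [neg_neg] at e
    rw [← map_add, ← key, ← key, map_smul] at e
    exact (smul_right_inj h2).1 e
  obtain ⟨n', hp⟩ := exists_hypPair hQ hn hn0
  obtain ⟨a, ha, ha', hQa⟩ := exists_aniso_orth_pair hQ h3 hp
  have hZ : ∀ x, polB Q x n • T n = polB Q (T x) n • n := by
    intro x
    suffices h : (Q a * Q a * polB Q (T n) n) • (polB Q x n • T n - polB Q (T x) n • n) = 0 from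
      sub_eq_zero.1 ((smul_eq_zero.1 h).resolve_left (mul_ne_zero (mul_ne_zero hQa hQa) hτ))
    rcases hq with ⟨t, ht, ht1⟩ | h5
    · have e1 := hG a ha x
      have e2 := hG (t • a) (by rw [map_smul, ha, smul_zero]) x
      simp only [G, map_add, map_sub, map_smul, qmap_smul, smul_eq_mul, LinearMap.smul_apply] at e1 e2
      have hne : t * t * (t * t - 1) ≠ 0 := mul_ne_zero (mul_ne_zero ht ht) (sub_ne_zero.2 ht1)
      refine (smul_eq_zero.1 ?_).resolve_left hne
      linear_combination (norm := module) e2 - (t * t) • e1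
    · obtain ⟨a', hb, -, haa, hQ'⟩ := exists_orth_same hQ h2 h5 hp hQa ha ha'
      have e1 := hG a ha x
      have e2 := hG a' hb x
      have e3 := hG (a + a') (by rw [map_add, ha, hb, add_zero]) x
      have e4 := hG (a - a') (by rw [map_sub, ha, hb, sub_zero]) x
      simp only [G, map_add, map_sub, map_smul, qmap_add, qmap_sub, haa, hQ', smul_eq_mul,
        LinearMap.add_apply, LinearMap.sub_apply, LinearMap.smul_apply] at e1 e2 e3 e4
      have h4 : (4 : F) ≠ 0 := by
        rw [show (4 : F) = 2 * 2 by norm_num]; exact mul_ne_zero h2 h2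
      refine (smul_eq_zero.1 ?_).resolve_left h4
      linear_combination (norm := module) e3 + e4 - (2 : F) • e1 - (2 : F) • e2
  have := hZ n'
  rw [hp.symm.pair, one_smul] at this
  apply hτ
  rw [this, map_smul, LinearMap.smul_apply, polB_self, hn, mul_zero, smul_zero]

end H98.TO
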