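import Cfsg.Agent.H98.TensOrth.Nice
import Cfsg.Agent.H98.TensOrth.Axis

/-!
A small overgroup consists of products.
-/

set_option autoImplicit false
set_option linter.unusedSectionVars false

namespace H98.TO

open H43

variable {F : Type*} [Field F] [Finite F]
  {L : Type*} [AddCommGroup L] [Module F L] [FiniteDimensional F L]
  {S : Type*} [AddCommGroup S] [Module F S] [FiniteDimensional F S]
  {V : Type*} [AddCommGroup V] [Module F V] [FiniteDimensional F V]

namespace OS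

variable {d : OS F L S V} {H : Subgroup (orthGroup d.Q)}

/-- Conjugates of long Siegel elements are skew on singular columns. -/
theorem skew_of_root (g : orthGroup d.Q) {u₀ w₀ : L} (hu₀ : d.QL u₀ = 0) (hw₀ : d.QL w₀ = 0)
    (h₀ : polB d.QL u₀ w₀ = 0) {u : L} (hu : d.QL u = 0) (e e' : S) :
    polB d.Q ((g * d.sg u₀ w₀ * g⁻¹).1 (d.t u e)) (d.t u e') =
      -polB d.Q ((g * d.sg u₀ w₀ * g⁻¹).1 (d.t u e')) (d.t u e) := by
  have key : ∀ e e', polB d.Q ((g * d.sg u₀ w₀ * g⁻¹).1 (d.t u e)) (d.t u e') =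
      polB d.QS (d.C u₀ ((g⁻¹).1 (d.t u e))) (d.C w₀ ((g⁻¹).1 (d.t u e'))) -
      polB d.QS (d.C w₀ ((g⁻¹).1 (d.t u e))) (d.C u₀ ((g⁻¹).1 (d.t u e'))) := fun e e' => by
    conv_lhs => rw [orth_mul_apply, orth_mul_apply, ← orth_apply_inv_self g (d.t u e'), orth_polB_map]
    have h : polB d.Q ((g⁻¹).1 (d.t u e)) ((g⁻¹).1 (d.t u e')) = 0 := by
      rw [orth_polB_map, d.f_t, polB_self_zero hu, zero_mul]
    rw [d.sg_apply hu₀ h₀, hw₀, zero_smul, sub_zero]
    simp only [map_add, map_sub, LinearMap.add_apply, LinearMap.sub_apply, h, zero_add]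
    rw [polB_comm (d.t w₀ _) _, polB_comm (d.t u₀ _) _, ← d.b_C', ← d.b_C']
  rw [key, key, polB_comm (d.C u₀ ((g⁻¹).1 (d.t u e'))), polB_comm (d.C w₀ ((g⁻¹).1 (d.t u e')))]
  ring

/-- A reflection of the first factor fixes the vectors with zero contraction. -/
theorem refl_fix_of_C {n : L} (hn : n ≠ 0) {v : V} (hv : d.C n v = 0) : (d.liftL (refl d.QL n)).1 v = v :=
  d.ker_ext hn (g := (d.liftL (refl d.QL n)).1.toLinearMap) (h := LinearMap.id) (fun a e ha => by
    show (d.liftL (refl d.QL n)).1 (d.t a e) = d.t a e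
    rw [d.liftL_t, refl_fix (by rw [polB_comm]; exact ha)]) hv

/-- A product involution with a small moved space moves a single column. -/
theorem column_of_involution {b : orthGroup d.Q} {n : L} (hn : d.QL n ≠ 0) {u : L} (hu0 : u ≠ 0) {e : S}
    (he : e ≠ 0) (hfix : (b⁻¹ * d.liftL (refl d.QL n) * b).1 (d.t u e) = d.t u e)
    (hT : d.IsT (b⁻¹ * d.liftL (refl d.QL n) * b)) :
    ∃ a, d.QL a ≠ 0 ∧ ∀ x, b.1 (d.t a x) ∈ d.W n := by
  classical
  set z := b⁻¹ * d.liftL (refl d.QL n) * b with hz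
  have hzz : z * z = 1 := by
    rw [hz, show b⁻¹ * d.liftL (refl d.QL n) * b * (b⁻¹ * d.liftL (refl d.QL n) * b) =
      b⁻¹ * (d.liftL (refl d.QL n) * d.liftL (refl d.QL n)) * b by group, ← map_mul, refl_sq, map_one, mul_one,
      inv_mul_cancel]
  have hn0 : n ≠ 0 := fun h => hn (by rw [h]; exact QuadraticMap.map_zero _)
  set Wn := (d.W n).map (b⁻¹).1.toLinearMap with hWn
  have hWnd : Module.finrank F Wn = Module.finrank F S := by
    rw [hWn, LinearEquiv.finrank_map_eq]; exact d.finrank_W hn0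
  have hmove : ∀ v, z.1 v - v ∈ Wn := by
    intro v
    have h1 : ∀ w, (d.liftL (refl d.QL n)).1 w - w ∈ d.W n := by
      have h2 : (d.W n).mkQ ∘ₗ ((d.liftL (refl d.QL n)).1.toLinearMap - LinearMap.id) = 0 :=
        d.hom_ext fun a x => by
          simp only [LinearMap.comp_apply, Submodule.mkQ_apply, LinearMap.zero_apply,
            Submodule.Quotient.mk_eq_zero, LinearMap.sub_apply, LinearMap.id_apply, LinearEquiv.coe_coe]
          rw [d.liftL_t, refl_apply, map_sub, LinearMap.sub_apply, sub_sub_cancel_left, map_smul,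
            LinearMap.smul_apply]
          exact neg_mem (Submodule.smul_mem _ _ (d.t_mem_W _ _))
      intro w
      simpa only [LinearMap.comp_apply, Submodule.mkQ_apply, LinearMap.zero_apply, Submodule.Quotient.mk_eq_zero,
        LinearMap.sub_apply, LinearMap.id_apply, LinearEquiv.coe_coe] using LinearMap.congr_fun h2 w
    refine ⟨(d.liftL (refl d.QL n)).1 (b.1 v) - b.1 v, h1 _, ?_⟩
    show (b⁻¹).1 ((d.liftL (refl d.QL n)).1 (b.1 v) - b.1 v) = z.1 v - v
    rw [map_sub, orth_inv_apply_self, hz, orth_mul_apply, orth_mul_apply]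
  obtain ⟨a₀, c₀, hac⟩ := hT
  rw [hac, d.tens_t] at hfix
  -- normalise at the fixed vector
  obtain ⟨e', he'⟩ := exists_polB_eq d.ndS he 1
  obtain ⟨u', hu'⟩ := d.exists_B_one hu0
  set r := polB d.QS (c₀ e) e' with hr
  have hra : r • a₀ u = u := by
    have := congrArg (d.D e') hfix
    rwa [d.D_t, d.D_t, he', one_smul] at this
  have hr0 : r ≠ 0 := fun h => hu0 (by rw [← hra, h, zero_smul])
  set A := fun x => r • a₀ x with hA
  set N := fun x => r⁻¹ • c₀ x with hN
  have hzt : ∀ x y, z.1 (d.t x y) = d.t (A x) (N y) := fun x y => by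
    rw [hac, d.tens_t, hA, hN]
    simp [smul_smul, inv_mul_cancel₀ hr0]
  have hNe : N e = e := d.t_injective hu0 (by
    show d.t u (r⁻¹ • c₀ e) = d.t u e
    conv_rhs => rw [← hfix]
    have hau : a₀ u = r⁻¹ • u := by
      conv_rhs => rw [← hra, smul_smul, inv_mul_cancel₀ hr0, one_smul]
    rw [hau, map_smul, map_smul, LinearMap.smul_apply])
  have hN1 : ∀ y, N (N y) = y := fun y => d.t_injective hu0 (by
    have h1 : (z * z).1 (d.t u y) = d.t u y := by rw [hzz]; rfl
    rwa [orth_mul_apply, hzt, hzt, show A (A u) = u by rw [show A u = u from hra]; exact hra] at h1)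
  have hA1 : ∀ x, A (A x) = x := fun x => by
    have h1 : (z * z).1 (d.t x e) = d.t x e := by rw [hzz]; rfl
    rw [orth_mul_apply, hzt, hzt, hNe, hNe] at h1
    exact d.t_left_ne he h1
  let Al : L →ₗ[F] L := r • a₀.toLinearMap
  let Nl : S →ₗ[F] S := r⁻¹ • c₀.toLinearMap
  have hAl : ∀ x, Al x = A x := fun x => rfl
  have hNl : ∀ x, Nl x = N x := fun x => rfl
  -- the second factor is trivial
  have hNid : ∀ y, N y = y := by
    by_contra hcon
    push Not at hcon
    obtain ⟨z₀, hz₀⟩ := hcon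
    set n₁ := N z₀ - z₀ with hn₁
    have hn₁0 : n₁ ≠ 0 := sub_ne_zero.2 hz₀
    have hNn₁ : N n₁ = -n₁ := by
      rw [hn₁, ← hNl, map_sub, hNl, hNl, hN1]; abel
    set M := Al - LinearMap.id with hM
    let J : (LinearMap.ker M × LinearMap.range M) →ₗ[F] V :=
      ((d.t.flip n₁) ∘ₗ (LinearMap.ker M).subtype).coprod ((d.t.flip e) ∘ₗ (LinearMap.range M).subtype)
    have hJinj : Function.Injective J := by
      refine (injective_iff_map_eq_zero J).2 fun p hp => ?_
      obtain ⟨⟨x, hx⟩, ⟨y, hy⟩⟩ := p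
      change d.t x n₁ + d.t y e = 0 at hp
      have hnmem : e ∉ F ∙ n₁ := fun h => by
        obtain ⟨s, hs⟩ := Submodule.mem_span_singleton.1 h
        have h1 : N e = -e := by rw [← hs, ← hNl, map_smul, hNl, hNn₁, smul_neg]
        rw [hNe] at h1
        have h2 : (2 : F) • e = 0 := by rw [two_smul]; exact eq_neg_iff_add_eq_zero.1 h1
        exact he ((smul_eq_zero.1 h2).resolve_left d.two)
      obtain ⟨q, hq, hqe⟩ := exists_orth_polB_eq d.ndS hnmem 1
      have h1 := congrArg (d.D q) hp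
      rw [map_add, d.D_t, d.D_t, hqe, hq n₁ (Submodule.mem_span_singleton_self n₁), zero_smul, zero_add,
        one_smul, map_zero] at h1
      rw [h1, map_zero, LinearMap.zero_apply, add_zero] at hp
      have h3 : x = 0 := d.t_left_ne hn₁0 (hp.trans (by simp))
      simp [h1, h3]
    have hJle : LinearMap.range J ≤ Wn := by
      rintro _ ⟨⟨⟨x, hx⟩, ⟨y, x', rfl⟩⟩, rfl⟩
      refine add_mem ?_ ?_
      · have h1 : A x = x := sub_eq_zero.1 hx
        have := hmove (d.t x z₀)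
        rw [hzt, h1, ← map_sub] at this
        exact this
      · have := hmove (d.t x' e)
        rw [hzt, hNe, ← LinearMap.sub_apply, ← map_sub] at this
        exact this
    have h1 := Submodule.finrank_mono hJle
    rw [LinearMap.finrank_range_of_inj hJinj, Module.finrank_prod, hWnd] at h1
    have h2 := M.finrank_range_add_finrank_ker
    have := d.gap
    omega
  obtain ⟨x, hx⟩ : ∃ x, A x ≠ x := by
    by_contra hcon
    push Not at hcon
    have hz1 : z = 1 := d.orth_ext' fun x y => by rw [hzt, hcon, hNid]; rfl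
    rw [hz, mul_eq_one_iff_eq_inv, inv_mul_eq_iff_eq_mul, mul_inv_cancel] at hz1
    have h1 := congrArg (fun g : orthGroup d.Q => g.1 (d.t n e)) hz1
    simp only [d.liftL_t, refl_self hn, orth_one_apply, map_neg, LinearMap.neg_apply] at h1
    have h2 : (2 : F) • d.t n e = 0 := by rw [two_smul]; exact eq_neg_iff_add_eq_zero.1 h1.symm
    exact d.t_ne_zero hn0 he ((smul_eq_zero.1 h2).resolve_left d.two)
  set a := A x - x with ha
  have ha0 : a ≠ 0 := sub_ne_zero.2 hx
  have hle : d.W a ≤ Wn := by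
    rintro _ ⟨y, rfl⟩
    have := hmove (d.t x y)
    rwa [hzt, hNid, ← LinearMap.sub_apply, ← map_sub] at this
  have heq := Submodule.eq_of_le_of_finrank_le hle (by rw [hWnd, d.finrank_W ha0])
  have himg : ∀ y, b.1 (d.t a y) ∈ d.W n := fun y => by
    obtain ⟨w, hw, hwy⟩ := hle (d.t_mem_W a y)
    rw [← hwy]
    show b.1 ((b⁻¹).1 w) ∈ d.W n
    rwa [orth_apply_inv_self]
  refine ⟨a, fun hQa => ?_, himg⟩
  obtain ⟨e₀, he₀⟩ := exists_aniso_S (d := d)
  have h1 : d.t n e₀ ∈ (d.W a).map b.1.toLinearMap := by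
    rw [heq]
    exact ⟨(b⁻¹).1 (d.t n e₀), Submodule.mem_map_of_mem (d.t_mem_W n e₀), orth_apply_inv_self b _⟩
  obtain ⟨_, ⟨y, rfl⟩, hy⟩ := h1
  have h2 := congrArg d.Q hy
  simp only [LinearEquiv.coe_coe, orth_qmap, d.Q_t, hQa, zero_mul, mul_zero] at h2
  exact (mul_ne_zero d.two (mul_ne_zero hn he₀)) h2.symm

/-- An element fixing an anisotropic column of a large first factor is a product. -/
theorem fix_column (hH : d.Over H) (hS : d.Small H) (hl : Module.finrank F L ≠ 5) {b : orthGroup d.Q} (hb : b ∈ H)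
    {a : L} (ha : d.QL a ≠ 0) (hfix : ∀ x, b.1 (d.t a x) = d.t a x) : d.IsT b := by
  classical
  have h7 : 6 ≤ Module.finrank F L := by have := d.five; omega
  have ha0 : a ≠ 0 := fun h => ha (by rw [h]; exact QuadraticMap.map_zero _)
  obtain ⟨u, hum, hu0, hu⟩ := exists_singular_in (Q := d.QL) ((polB d.QL).orthogonal (F ∙ a)) (by
    have := finrank_orth_singleton d.ndL ha0; omega)
  have hau : polB d.QL a u = 0 := mem_orth_singleton.1 hum
  have hua : polB d.QL u a = 0 := by rw [polB_comm]; exact hau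
  obtain ⟨w, hwm, hw0, hw, hwu⟩ : ∃ w, polB d.QL a w = 0 ∧ w ≠ 0 ∧ (d.QL w = 0 ∧ polB d.QL u w = 0) ∧ w ∉ F ∙ u := by
    obtain ⟨u', hp, hu'⟩ := exists_hypPair_orth d.ndL (W := F ∙ a) hu (fun hmem => by
        obtain ⟨s, rfl⟩ := Submodule.mem_span_singleton.1 hmem
        rw [qmap_smul, mul_eq_zero] at hu
        exact hu.elim (fun h => hu0 (by rw [mul_self_eq_zero.1 h, zero_smul])) ha)
      (fun y hy => by
        obtain ⟨s, rfl⟩ := Submodule.mem_span_singleton.1 hy
        simp [hau])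
    obtain ⟨w, hwm, hw0, hw⟩ := exists_singular_in (Q := d.QL)
      ((polB d.QL).orthogonal (Submodule.span F ({a, u, u'} : Set L))) (by
      have h1 := finrank_orth_add d.ndL (Submodule.span F ({a, u, u'} : Set L))
      have h2 : Module.finrank F (Submodule.span F ({a, u, u'} : Set L)) ≤ 3 := by
        have := finrank_span_finset_le_card (R := F) ({a, u, u'} : Finset L)
        rw [Set.finrank] at this
        exact le_trans (le_of_eq (by congr 2 <;> simp)) (this.trans Finset.card_le_three)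
      obtain ⟨j, hj⟩ := d.oddL
      omega)
    rw [mem_orth_span] at hwm
    refine ⟨w, hwm a (by simp), hw0, ⟨hw, hwm u (by simp)⟩, fun hmem => ?_⟩
    obtain ⟨s, rfl⟩ := Submodule.mem_span_singleton.1 hmem
    have := hwm u' (by simp)
    rw [map_smul, hp.symm.pair, smul_eq_mul, mul_one] at this
    exact hw0 (by rw [this, zero_smul])
  obtain ⟨hwQ, huw⟩ := hw
  by_contra hnT
  set b₁ := b * d.sg u w * b⁻¹ with hb₁
  have hb₁m : b₁ ∈ H := mul_mem (mul_mem hb (hH.sg_mem hu huw)) (inv_mem hb)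
  have hb₁T : ¬ d.IsT b₁ := fun h => hnT (root_conj hH hS hb hu huw hwu hu0 h)
  have hb₁a : ∀ x, b₁.1 (d.t a x) = d.t a x := fun x => by
    have h1 : (b⁻¹).1 (d.t a x) = d.t a x := by
      conv_lhs => rw [← hfix x, orth_inv_apply_self]
    rw [hb₁, orth_mul_apply, orth_mul_apply, h1, d.sg_t hu huw, hau, hwm]
    simp [hfix]
  -- a vector of the column of `u` sent orthogonally to it
  set X : S →ₗ[F] S := d.C u ∘ₗ b₁.1.toLinearMap ∘ₗ d.t u with hX
  obtain ⟨e, he, hXe⟩ := exists_ker_skew d.ndS d.two d.oddS X fun x y => by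
    show polB d.QS (d.C u (b₁.1 (d.t u x))) y = -polB d.QS x (d.C u (b₁.1 (d.t u y)))
    rw [d.b_C, d.b_C', hb₁]
    exact skew_of_root b hu hwQ huw hu x y
  set x := b₁.1 (d.t u e) with hx
  have hxu : d.C u x = 0 := hXe
  have hxa : d.C a x = 0 := d.S_ext fun y => by
    rw [d.b_C, hx, ← hb₁a y, orth_polB_map, d.f_t, hua, zero_mul, map_zero, LinearMap.zero_apply]
  have hsgx : (d.sg u a).1 x = x := by rw [d.sg_apply hu hua, hxu, hxa]; simp
  refine hb₁T ?_
  have hstep : d.IsT (b₁⁻¹ * d.sg u a * b₁) :=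
    step hH hS (mul_mem (mul_mem (inv_mem hb₁m) (hH.sg_mem hu hua)) hb₁m) hu hu0 hu hu0 he (by
      rw [orth_mul_apply, orth_mul_apply, ← hx, hsgx, hx, orth_inv_apply_self]
      exact d.t_mem_W _ _) fun h => absurd h hl
  have := root_conj hH hS (inv_mem hb₁m) hu hua (fun hmem => by
      obtain ⟨s, rfl⟩ := Submodule.mem_span_singleton.1 hmem
      exact ha (by rw [qmap_smul, hu, mul_zero])) hu0 (by rwa [inv_inv])
  simpa using this.inv

/-- Good vectors of the kernel give columns. -/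
theorem exists_column (hH : d.Over H) (hS : d.Small H) {b : orthGroup d.Q} (hbm : b ∈ H) {u : L} (hu : d.QL u = 0)
    (hu0 : u ≠ 0) {e : S} (he : e ≠ 0) (hnice : Module.finrank F L = 5 → Nice d e) {n : L} (hn : Good d.QL n)
    (hnx : d.C n (b.1 (d.t u e)) = 0) : ∃ a, d.QL a ≠ 0 ∧ ∀ y, b.1 (d.t a y) ∈ d.W n := by
  have hn0 : n ≠ 0 := fun h => hn.1 (by rw [h]; exact QuadraticMap.map_zero _)
  have hfix : (b⁻¹ * d.liftL (refl d.QL n) * b).1 (d.t u e) = d.t u e := by
    rw [orth_mul_apply, orth_mul_apply, refl_fix_of_C hn0 hnx, orth_inv_apply_self]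
  refine column_of_involution hn.1 hu0 he hfix ?_
  exact step hH hS (mul_mem (mul_mem (inv_mem hbm) (hH.refl_mem hn)) hbm) hu hu0 hu hu0 he
    (by rw [hfix]; exact d.t_mem_W _ _) hnice

/-- A hyperbolic kernel when the first factor has dimension five. -/
theorem kernel_pair_five (hH : d.Over H) (hS : d.Small H) {b : orthGroup d.Q} (hbm : b ∈ H) {u k₁ : L}
    (hp : HypPair d.QL u k₁) (hl : Module.finrank F L = 5) {e : S} (he : e ≠ 0) (hnice : Nice d e)
    (hxu : d.C u (b.1 (d.t u e)) = 0) (hxk : d.C k₁ (b.1 (d.t u e)) = 0) {α : F}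
    (hn₁ : Good d.QL (u + α • k₁)) : d.IsT b := by
  classical
  have hu := hp.left
  have hu0 := hp.left_ne_zero
  have hcol : ∀ n, Good d.QL n → d.C n (b.1 (d.t u e)) = 0 → ∃ a, d.QL a ≠ 0 ∧ ∀ y, b.1 (d.t a y) ∈ d.W n :=
    fun n hn hx => exists_column hH hS hbm hu hu0 he (fun _ => hnice) hn hx
  set n := u + α • k₁ with hndef
  have hn := hn₁
  have hnK : d.C n (b.1 (d.t u e)) = 0 := by rw [hndef, d.C_add, d.C_smul, hxu, hxk]; simp
  obtain ⟨a, ha, hcola⟩ := hcol n hn hnK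
  -- first factor of dimension five
  have hs : Module.finrank F S = 3 := by have := d.three; have := d.gap; omega
  obtain ⟨t, ht, ht1⟩ : ∃ t : F, t ≠ 0 ∧ t * t ≠ 1 := d.q_cases.resolve_right (by omega)
  set n' := t⁻¹ • (u + (α * (t * t)) • k₁) with hn'def
  have hn' : Good d.QL n' := hn.of_eq (by
    rw [hn'def, hndef, qmap_smul, qmap_add_smul, qmap_add_smul, hp.left, hp.right, hp.pair]
    field_simp
    ring)
  have hn'K : d.C n' (b.1 (d.t u e)) = 0 := by rw [hn'def, d.C_smul, d.C_add, d.C_smul, hxu, hxk]; simp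
  have hn'0 : n' ≠ 0 := fun h => hn'.1 (by rw [h]; exact QuadraticMap.map_zero _)
  obtain ⟨a', ha', hcola'⟩ := hcol n' hn' hn'K
  obtain ⟨σ, σ', huσ⟩ : ∃ σ σ' : F, u = σ • n + σ' • n' := by
    have h1 : t * t - 1 ≠ 0 := sub_ne_zero.2 ht1
    refine ⟨(t * t - 1)⁻¹ * (t * t), (t * t - 1)⁻¹ * -t, ?_⟩
    have e1 : (t * t - 1) • u = (t * t) • n + (-t) • n' := by
      rw [hn'def, hndef]
      match_scalars <;> field_simp <;> ring
    rw [mul_smul (t * t - 1)⁻¹, mul_smul (t * t - 1)⁻¹, ← smul_add, ← e1, smul_smul, inv_mul_cancel₀ h1, one_smul]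
  have hmap : ∀ (n a : L), d.QL n ≠ 0 → (∀ y, b.1 (d.t a y) ∈ d.W n) → d.QL a ≠ 0 →
      ∃ c : S ≃ₗ[F] S, (∀ y, b.1 (d.t a y) = d.t n (c y)) ∧
        ∃ k, k ≠ 0 ∧ ∀ x y, polB d.QS (c x) (c y) = k * polB d.QS x y := by
    intro n a hn hcol ha
    have hn0 : n ≠ 0 := fun h => hn (by rw [h]; exact QuadraticMap.map_zero _)
    have ha0 : a ≠ 0 := fun h => ha (by rw [h]; exact QuadraticMap.map_zero _)
    have hBn : polB d.QL n n ≠ 0 := by rw [polB_self]; exact mul_ne_zero d.two hn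
    let c : S →ₗ[F] S := (polB d.QL n n)⁻¹ • (d.C n ∘ₗ b.1.toLinearMap ∘ₗ d.t a)
    have hc : ∀ y, b.1 (d.t a y) = d.t n (c y) := fun y => by
      obtain ⟨y', hy'⟩ := hcol y
      have : c y = y' := by
        show (polB d.QL n n)⁻¹ • d.C n (b.1 (d.t a y)) = y'
        rw [← hy', d.C_t, smul_smul, inv_mul_cancel₀ hBn, one_smul]
      rw [this, hy']
    have hinj : Function.Injective c := fun y y' h => by
      have h1 := hc y
      rw [h, ← hc] at h1
      exact d.t_injective ha0 (b.1.injective h1)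
    refine ⟨LinearEquiv.ofInjectiveEndo c hinj, hc, polB d.QL a a / polB d.QL n n,
      div_ne_zero (by rw [polB_self]; exact mul_ne_zero d.two ha) hBn, fun x y => ?_⟩
    have h1 := orth_polB_map b (d.t a x) (d.t a y)
    rw [hc, hc, d.f_t, d.f_t] at h1
    show polB d.QS (c x) (c y) = _
    rw [div_mul_eq_mul_div, eq_div_iff hBn, mul_comm]
    exact h1
  obtain ⟨c, hc, k, hk0, hcs⟩ := hmap n a hn.1 hcola ha
  obtain ⟨c', hc', k', hk'0, hc's⟩ := hmap n' a' hn'.1 hcola' ha'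
  have hcsymm : ∀ x y, polB d.QS (c.symm x) (c.symm y) = k⁻¹ * polB d.QS x y := fun x y => by
    conv_rhs => rw [← c.apply_symm_apply x, ← c.apply_symm_apply y, hcs, ← mul_assoc, inv_mul_cancel₀ hk0, one_mul]
  set m := c⁻¹ * c' with hm
  have hms : ∀ x y, polB d.QS (m x) (m y) = (k⁻¹ * k') * polB d.QS x y := fun x y => by
    show polB d.QS (c.symm (c' x)) (c.symm (c' y)) = _
    rw [hcsymm, hc's, mul_assoc]
  obtain ⟨r, hr⟩ := simil_square d.ndS d.oddS m.toLinearMap (mul_ne_zero (inv_ne_zero hk0) hk'0) hms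
  have hr0 : r ≠ 0 := fun h => mul_ne_zero (inv_ne_zero hk0) hk'0 (by rw [hr, h, mul_zero])
  let D : orthGroup d.QS := ⟨LinearEquiv.smulOfNeZero F S r⁻¹ (inv_ne_zero hr0) * m, fun x => by
    show d.QS (r⁻¹ • m x) = d.QS x
    refine mul_left_cancel₀ d.two ?_
    rw [qmap_smul, ← polB_self, mul_left_comm, ← polB_self, hms, hr]
    field_simp⟩
  have hD : ∀ x, D.1 x = r⁻¹ • m x := fun x => rfl
  by_cases hscal : ∀ ν, d.QS ν = 0 → D.1 ν ∈ F ∙ ν
  · -- the two maps agree up to a scalar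
    obtain ⟨ν₀, hν₀0, hν₀⟩ := exists_singular d.QS (le_of_eq hs.symm)
    obtain ⟨ν₁, hpν⟩ := exists_hypPair d.ndS hν₀ hν₀0
    obtain ⟨γ, hγ⟩ := Submodule.mem_span_singleton.1 (hscal ν₀ hν₀)
    have hscalar : ∀ z, D.1 z = γ • z := by
      have hsing : ∀ z, d.QS z = 0 → polB d.QS ν₀ z ≠ 0 → D.1 z = γ⁻¹ • z := by
        intro z hz hne
        obtain ⟨s, hs⟩ := Submodule.mem_span_singleton.1 (hscal z hz)
        have h1 := orth_polB_map D ν₀ z
        rw [← hγ, ← hs, map_smul, map_smul, LinearMap.smul_apply, smul_eq_mul, smul_eq_mul, ← mul_assoc,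
          mul_eq_right₀ hne] at h1
        rw [← hs, show s = γ⁻¹ from (inv_eq_of_mul_eq_one_left h1).symm]
      have h0 : D.1.toLinearMap - γ⁻¹ • LinearMap.id = 0 :=
        hom_zero_of_nonorth d.ndS d.two d.three _ hν₀ hν₀0 fun z hz hne => by simp [hsing z hz hne]
      have h2 : ∀ z, D.1 z = γ⁻¹ • z := fun z => by
        have := LinearMap.congr_fun h0 z
        simpa [sub_eq_zero] using this
      have hsg : γ = γ⁻¹ := by
        have := h2 ν₀
        rw [← hγ] at this
        exact smul_left_injective F hν₀0 this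
      intro z
      rw [h2, ← hsg]
    have hc'c : ∀ z, c' z = (r * γ) • c z := fun z => by
      have h1 := hscalar z
      rw [hD] at h1
      have h2 : m z = (r * γ) • z := by
        rw [mul_smul, ← h1, smul_smul, mul_inv_cancel₀ hr0, one_smul]
      rw [hm, LinearEquiv.mul_apply] at h2
      have h3 := congrArg c h2
      rwa [map_smul, show c (c⁻¹ (c' z)) = c' z from c.apply_symm_apply _] at h3
    -- then a singular column goes to a singular column
    rcases eq_or_ne γ 0 with hγ0 | hγ0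
    · have h4 := hscalar ν₀
      rw [hγ0, zero_smul, LinearEquiv.map_eq_zero_iff] at h4
      exact (hν₀0 h4).elim
    set v := σ • a + (σ' / (r * γ)) • a' with hv
    have hbv : ∀ z, b.1 (d.t v z) = d.t u (c z) := fun z => by
      have h4 : (σ' / (r * γ)) * (r * γ) = σ' := div_mul_cancel₀ _ (mul_ne_zero hr0 hγ0)
      rw [hv, huσ]
      simp only [map_add, map_smul, LinearMap.add_apply, LinearMap.smul_apply, hc, hc', hc'c, smul_smul, h4]
    obtain ⟨e₀, he₀⟩ := exists_aniso_S (d := d)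
    have hvQ : d.QL v = 0 := by
      have h1 := orth_qmap b (d.t v e₀)
      rw [hbv, d.Q_t, d.Q_t, hu, zero_mul, mul_zero, eq_comm, mul_eq_zero, mul_eq_zero] at h1
      exact (h1.resolve_left d.two).resolve_right he₀
    have hv0 : v ≠ 0 := fun h => by
      have h1 := hbv e₀
      rw [h, map_zero, LinearMap.zero_apply, map_zero, eq_comm] at h1
      exact d.t_ne_zero hu0 (fun h => he₀ (by rw [c.map_eq_zero_iff.1 h]; exact QuadraticMap.map_zero _)) h1
    obtain ⟨ν, hν0, hν⟩ := exists_singular d.QS (le_of_eq hs.symm)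
    exact (step hH hS hbm hvQ hv0 hu hu0 hν0 (by rw [hbv]; exact d.t_mem_W _ _)
      fun _ => ⟨ν, hν0, hν, polB_self_zero hν⟩)
  push Not at hscal
  obtain ⟨ν, hν, hDν⟩ := hscal
  have hν0 : ν ≠ 0 := fun h => hDν (by rw [h, map_zero]; exact zero_mem _)
  obtain ⟨δ, hδ, e₂, he₂, hfix, hne, c₂, hc₂0, hc₂, hec₂⟩ :=
    exists_axis d.ndS d.two hs ⟨t, ht, ht1⟩ D hν hν0 hDν
  -- conjugation by a similitude
  let θ : orthGroup d.QS →* orthGroup d.QS :=
    { toFun := fun f => ⟨c * f.1 * c⁻¹, fun z => by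
        refine mul_left_cancel₀ d.two ?_
        rw [← polB_self, ← polB_self]
        show polB d.QS (c (f.1 (c.symm z))) (c (f.1 (c.symm z))) = _
        rw [hcs, orth_polB_map, hcsymm, ← mul_assoc, mul_inv_cancel₀ hk0, one_mul]⟩
      map_one' := Subtype.ext (by simp)
      map_mul' := fun f f' => Subtype.ext (by simp [mul_assoc]) }
  have hθ : θ δ ∈ commutator (orthGroup d.QS) := by
    rw [commutator_def] at hδ ⊢
    exact Subgroup.commutator_mono le_top le_top
      (Subgroup.map_commutator ⊤ ⊤ θ ▸ Subgroup.mem_map_of_mem θ hδ)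
  set h := b * d.liftS δ * b⁻¹ * (d.liftS (θ δ))⁻¹ with hhdef
  have hhm : h ∈ H :=
    mul_mem (mul_mem (mul_mem hbm (hH.liftS_mem hδ)) (inv_mem hbm)) (inv_mem (hH.liftS_mem hθ))
  have hθinv : ∀ x z, ((d.liftS (θ δ))⁻¹).1 (d.t x z) = d.t x (c ((δ⁻¹).1 (c.symm z))) := fun x z => by
    rw [← map_inv, ← map_inv, d.liftS_t]
    rfl
  have hbi : ∀ z, (b⁻¹).1 (d.t n z) = d.t a (c.symm z) := fun z => by
    conv_lhs => rw [← c.apply_symm_apply z, ← hc, orth_inv_apply_self]
  have hbi' : ∀ z, (b⁻¹).1 (d.t n' z) = d.t a' (c'.symm z) := fun z => by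
    conv_lhs => rw [← c'.apply_symm_apply z, ← hc', orth_inv_apply_self]
  have hn_fix : ∀ z, h.1 (d.t n z) = d.t n z := fun z => by
    rw [hhdef, orth_mul_apply, orth_mul_apply, orth_mul_apply, hθinv, hbi, c.symm_apply_apply, d.liftS_t,
      orth_apply_inv_self, hc, c.apply_symm_apply]
  set D₂ := D * δ * D⁻¹ * δ⁻¹ with hD₂
  have hn'_fix : ∀ z, h.1 (d.t n' z) = d.t n' (c (D₂.1 (c.symm z))) := fun z => by
    rw [hhdef, orth_mul_apply, orth_mul_apply, orth_mul_apply, hθinv, hbi', d.liftS_t, hc']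
    congr 1
    rw [hD₂, orth_mul_apply, orth_mul_apply, orth_mul_apply]
    set w := (δ⁻¹).1 (c.symm z)
    have hDi : (D⁻¹).1 w = r • c'.symm (c w) := D.1.injective (by
      rw [orth_apply_inv_self, hD]
      show w = r⁻¹ • c.symm (c' (r • c'.symm (c w)))
      rw [map_smul, c'.apply_symm_apply, map_smul, c.symm_apply_apply, smul_smul, inv_mul_cancel₀ hr0, one_smul])
    rw [hDi, map_smul δ.1, map_smul D.1, hD, smul_smul, mul_inv_cancel₀ hr0, one_smul]
    exact (c.apply_symm_apply _).symm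
  set e₃ := c e₂ with he₃
  have hue : h.1 (d.t u e₃) = d.t u e₃ := by
    rw [huσ, map_add, map_smul, map_smul, LinearMap.add_apply, LinearMap.smul_apply, LinearMap.smul_apply,
      map_add, map_smul, map_smul, hn_fix, hn'_fix, he₃, c.symm_apply_apply, hfix]
  have he₃0 : e₃ ≠ 0 := fun h0 => he₂ (c.map_eq_zero_iff.1 h0)
  obtain ⟨a₃, c₃, hT⟩ := step hH hS hhm hu hu0 hu hu0 he₃0 (by rw [hue]; exact d.t_mem_W _ _)
    fun _ => ⟨c c₂, fun h0 => hc₂0 (c.map_eq_zero_iff.1 h0), by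
      refine (mul_eq_zero.1 ?_).resolve_left d.two
      rw [← polB_self, hcs, polB_self_zero hc₂, mul_zero], by rw [he₃, hcs, hec₂, mul_zero]⟩
  -- the second factor of the product is scalar
  have hBn : polB d.QL n n ≠ 0 := by rw [polB_self]; exact mul_ne_zero d.two hn.1
  have hBn' : polB d.QL n' n' ≠ 0 := by rw [polB_self]; exact mul_ne_zero d.two hn'.1
  have hc₃ : ∀ z, polB d.QL (a₃ n) n • c₃ z = polB d.QL n n • z := fun z => by
    have := congrArg (d.C n) (hn_fix z)
    rwa [hT, d.tens_t, d.C_t, d.C_t, polB_comm n n] at this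
  have hν' : polB d.QL (a₃ n) n ≠ 0 := fun h0 => by
    have := hc₃ e₂
    rw [h0, zero_smul, eq_comm, smul_eq_zero] at this
    exact this.elim hBn he₂
  refine (hne (orth_ext fun z => ?_)).elim
  set s := polB d.QL (a₃ n') n' * polB d.QL n n / (polB d.QL (a₃ n) n * polB d.QL n' n') with hs'
  have hD₂s : ∀ z, D₂.1 z = s • z := fun z => by
    have h1 := congrArg (d.C n') (hn'_fix (c z))
    rw [hT, d.tens_t, d.C_t, d.C_t, c.symm_apply_apply] at h1
    have h2 : c₃ (c z) = (polB d.QL n n / polB d.QL (a₃ n) n) • c z := by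
      rw [div_eq_inv_mul, mul_smul, ← hc₃, smul_smul, inv_mul_cancel₀ hν', one_smul]
    rw [h2, smul_smul, ← map_smul c, ← map_smul c] at h1
    have h3 := c.injective h1
    rw [hs', div_mul_eq_div_div_swap, ← smul_right_inj hBn', ← h3, smul_smul]
    congr 1
    field_simp
  have h1 : s = 1 := smul_left_injective F he₂ (by
    show s • e₂ = (1 : F) • e₂
    rw [← hD₂s, one_smul, hfix])
  rw [hD₂s, h1, one_smul, orth_one_apply]

/-- A hyperbolic kernel. -/
theorem kernel_pair (hH : d.Over H) (hS : d.Small H) {b : orthGroup d.Q} (hbm : b ∈ H) {u k₁ : L}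
    (hp : HypPair d.QL u k₁) {e : S} (he : e ≠ 0) (hnice : Module.finrank F L = 5 → Nice d e)
    (hxu : d.C u (b.1 (d.t u e)) = 0) (hxk : d.C k₁ (b.1 (d.t u e)) = 0) : d.IsT b := by
  classical
  obtain ⟨α, hα, hn⟩ := exists_good hp
  by_cases hl : Module.finrank F L = 5
  · exact kernel_pair_five hH hS hbm hp hl he (hnice hl) hxu hxk hn
  set n := u + α • k₁ with hndef
  have hn0 : n ≠ 0 := fun h => hn.1 (by rw [h]; exact QuadraticMap.map_zero _)
  obtain ⟨a, ha, hcola⟩ := exists_column hH hS hbm hp.left hp.left_ne_zero he hnice hn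
    (by rw [hndef, d.C_add, d.C_smul, hxu, hxk]; simp)
  obtain ⟨u₂, hu₂m, hu₂0, hu₂⟩ := exists_singular_in (Q := d.QL) ((polB d.QL).orthogonal (F ∙ n)) (by
    have := finrank_orth_singleton d.ndL hn0; have := d.five; omega)
  have hnu₂ : polB d.QL n u₂ = 0 := mem_orth_singleton.1 hu₂m
  obtain ⟨w₂, hw₂m, hw₂n⟩ : ∃ w₂ ∈ (polB d.QL).orthogonal (Submodule.span F {n, u₂}), w₂ ∉ F ∙ u₂ := by
    by_contra hcon
    push Not at hcon
    have h1 := Submodule.finrank_mono hcon
    have h2 := finrank_orth_pair d.ndL n u₂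
    rw [finrank_span_singleton hu₂0] at h1
    have := d.five; omega
  obtain ⟨hnw₂, hu₂w₂⟩ := mem_orth_pair.1 hw₂m
  set b₀ := b⁻¹ * d.sg u₂ w₂ * b with hb₀
  have hb₀m : b₀ ∈ H := mul_mem (mul_mem (inv_mem hbm) (hH.sg_mem hu₂ hu₂w₂)) hbm
  have hb₀T := fix_column hH hS hl hb₀m ha fun y => by
    obtain ⟨y', hy'⟩ := hcola y
    have h1 : (d.sg u₂ w₂).1 (d.t n y') = d.t n y' := by
      rw [d.sg_t hu₂ hu₂w₂, hnu₂, hnw₂]; simp
    rw [hb₀, orth_mul_apply, orth_mul_apply, ← hy', h1, hy', orth_inv_apply_self]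
  have := root_conj hH hS (inv_mem hbm) hu₂ hu₂w₂ hw₂n hu₂0 (by rwa [inv_inv])
  exact (show d.IsT b by simpa using this.inv)

/-- A small overgroup consists of products. -/
theorem all_tens (hH : d.Over H) (hS : d.Small H) {g : orthGroup d.Q} (hg : g ∈ H) : d.IsT g := by
  classical
  by_contra hgT
  obtain ⟨u₀, u₀', w₀, hp₀, hw₀, -, h₀, -, hw₀u⟩ := exists_sing_pair d.ndL d.five
  set b := g * d.sg u₀ w₀ * g⁻¹ with hb
  have hbm : b ∈ H := mul_mem (mul_mem hg (hH.sg_mem hp₀.left h₀)) (inv_mem hg)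
  have hbT : ¬ d.IsT b := fun h => hgT (root_conj hH hS hg hp₀.left h₀ hw₀u hp₀.left_ne_zero h)
  have hskew : ∀ u, d.QL u = 0 → ∀ e e', polB d.Q (b.1 (d.t u e)) (d.t u e') =
      -polB d.Q (b.1 (d.t u e')) (d.t u e) := fun u hu e e' => skew_of_root g hp₀.left hw₀ h₀ hu e e'
  obtain ⟨u, e, hu, hu0, he, hnice, hxu⟩ : ∃ u e, d.QL u = 0 ∧ u ≠ 0 ∧ e ≠ 0 ∧
      (Module.finrank F L = 5 → Nice d e) ∧ d.C u (b.1 (d.t u e)) = 0 := by
    by_cases hl : Module.finrank F L = 5
    · obtain ⟨u, e, hu, hu0, he, hn, hx⟩ := exists_kernel_nice hl b hskew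
      exact ⟨u, e, hu, hu0, he, fun _ => hn, hx⟩
    · obtain ⟨e, he, hx⟩ := exists_ker_skew d.ndS d.two d.oddS (d.C u₀ ∘ₗ b.1.toLinearMap ∘ₗ d.t u₀) fun x y => by
        show polB d.QS (d.C u₀ (b.1 (d.t u₀ x))) y = -polB d.QS x (d.C u₀ (b.1 (d.t u₀ y)))
        rw [d.b_C, d.b_C']
        exact hskew u₀ hp₀.left x y
      exact ⟨u₀, e, hp₀.left, hp₀.left_ne_zero, he, fun h => absurd h hl, hx⟩
  set x := b.1 (d.t u e) with hx
  set K := LinearMap.ker (d.Cl x) with hK
  have huK : u ∈ K := hxu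
  have hKd : 2 ≤ Module.finrank F K := by
    have h1 := (d.Cl x).finrank_range_add_finrank_ker
    have h2 : Module.finrank F (LinearMap.range (d.Cl x)) ≤ Module.finrank F S := Submodule.finrank_le _
    have := d.gap
    rw [hK]; omega
  by_cases hk : ∃ k ∈ K, polB d.QL u k = 0 ∧ k ∉ F ∙ u
  · obtain ⟨k, hkK, huk, hku⟩ := hk
    have hsgx : (d.sg u k).1 x = x := by
      rw [d.sg_apply hu huk, hxu, show d.C k x = 0 from hkK]; simp
    have hstep : d.IsT (b⁻¹ * d.sg u k * b) :=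
      step hH hS (mul_mem (mul_mem (inv_mem hbm) (hH.sg_mem hu huk)) hbm) hu hu0 hu hu0 he (by
        rw [orth_mul_apply, orth_mul_apply, ← hx, hsgx, hx, orth_inv_apply_self]
        exact d.t_mem_W _ _) hnice
    have := root_conj hH hS (inv_mem hbm) hu huk hku hu0 (by rwa [inv_inv])
    exact hbT (by simpa using this.inv)
  push Not at hk
  -- the kernel is a hyperbolic line
  obtain ⟨k₁, hk₁, hp⟩ : ∃ k₁ ∈ K, HypPair d.QL u k₁ := by
    obtain ⟨k, hkK, hku⟩ : ∃ k ∈ K, k ∉ F ∙ u := by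
      by_contra hcon
      push Not at hcon
      have := Submodule.finrank_mono hcon
      rw [finrank_span_singleton hu0] at this
      omega
    have h1 : polB d.QL u k ≠ 0 := fun h => hku (hk k hkK h)
    set k' := (polB d.QL u k)⁻¹ • k with hk'
    have h2 : polB d.QL u k' = 1 := by rw [hk', map_smul, smul_eq_mul, inv_mul_cancel₀ h1]
    refine ⟨k' + (-d.QL k') • u, K.add_mem (K.smul_mem _ hkK) (K.smul_mem _ huK), hu, ?_, ?_⟩
    · rw [qmap_add_smul, hu, polB_comm k' u, h2]; ring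
    · rw [map_add, map_smul (polB d.QL u) (-d.QL k'), h2, polB_self, hu]; simp
  exact hbT (kernel_pair hH hS hbm hp he hnice hxu (show d.C k₁ x = 0 from hk₁))

end OS

end H98.TO
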