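import Cfsg.Agent.H98.TensOrth.Ctr
import Cfsg.Agent.H98.TensOrth.Start
import Cfsg.Agent.H49.TensSpMax
import Cfsg.Agent.H43.Bridge
import Cfsg.Agent.H43.Disc

/-!
The stabiliser of a decomposition of an odd-dimensional orthogonal space as a tensor product is maximal.
-/

set_option autoImplicit false
set_option linter.unusedSectionVars false

namespace H98.TO

open H43
open scoped commutatorElement Matrix Kronecker TensorProduct

namespace OS

variable {F : Type*} [Field F] [Finite F]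
  {L : Type*} [AddCommGroup L] [Module F L] [FiniteDimensional F L]
  {S : Type*} [AddCommGroup S] [Module F S] [FiniteDimensional F S]
  {V : Type*} [AddCommGroup V] [Module F V] [FiniteDimensional F V]

/-- An element of `Ω` which is not a product. -/
theorem exists_not_isT (d : OS F L S V) : ∃ g ∈ commutator (orthGroup d.Q), ¬ d.IsT g := by
  classical
  haveI := Fintype.ofFinite F
  obtain ⟨p, hp⟩ := CharP.exists F
  haveI := hp
  haveI : Fact p.Prime := ⟨CharP.char_is_prime F p⟩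
  have h5 : 5 ≤ Module.finrank F V := by
    rw [d.finrank_eq]
    have h1 := d.five
    have h2 := d.three
    calc 5 ≤ Module.finrank F L * 1 := by omega
      _ ≤ _ := Nat.mul_le_mul le_rfl (by omega)
  obtain ⟨u, u', w, hp', hw, hw0, huw, hu'w, -⟩ := exists_sing_pair d.nd h5
  refine ⟨eichler d.Q u w, eichler_mem_comm d.nd d.two (by omega) hp'.left huw, fun hT => ?_⟩
  have hpow : ∀ n : ℕ, eichler d.Q u w ^ n = eichler d.Q u ((n : F) • w) := by
    intro n
    induction n with
    | zero => rw [pow_zero, Nat.cast_zero, zero_smul, eichler_zero hp'.left]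
    | succ n ih =>
      rw [pow_succ, ih, eichler_mul hp'.left (by rw [map_smul, huw, smul_zero]) huw, Nat.cast_succ, add_smul,
        one_smul]
  have h1 : eichler d.Q u w ^ p = 1 := by rw [hpow, CharP.cast_eq_zero, zero_smul, eichler_zero hp'.left]
  have hr : Module.finrank F (LinearMap.range (((eichler d.Q u w).1 : V →ₗ[F] V) - 1)) ≤ 2 := by
    refine (Submodule.finrank_mono (t := Submodule.span F ({u, w} : Set V)) ?_).trans ?_
    · rintro _ ⟨v, rfl⟩
      show (eichler d.Q u w).1 v - v ∈ _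
      rw [eichler_apply hp'.left huw]
      refine Submodule.mem_span_pair.2
        ⟨-polB d.Q v w - d.Q w * polB d.Q v u, polB d.Q v u, ?_⟩
      module
    · have := finrank_span_finset_le_card (R := F) ({u, w} : Finset V)
      rw [Set.finrank, Finset.coe_insert, Finset.coe_singleton] at this
      exact this.trans Finset.card_le_two
  have hs := d.three
  obtain ⟨a, ha, hle⟩ := small_rank p hT h1 (by omega)
  have h0 : Module.finrank F (LinearMap.range ((a.1 : L →ₗ[F] L) - 1)) = 0 := by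
    by_contra hne
    have h2 := Nat.mul_le_mul (Nat.one_le_iff_ne_zero.2 hne) hs
    omega
  have ha1 : a = 1 := orth_ext fun x => by
    have h2 := LinearMap.range_eq_bot.1 (Submodule.finrank_eq_zero.1 h0)
    have := LinearMap.congr_fun h2 x
    simpa [sub_eq_zero, orth_one_apply] using this
  have h2 := congrArg (fun g : orthGroup d.Q => g.1 u') ha
  simp only [ha1, map_one, orth_one_apply, eichler_apply hp'.left huw, hp'.symm.pair, hw, hu'w, one_smul,
    zero_smul, sub_zero, zero_mul] at h2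
  exact hw0 (by simpa using h2)

/-- A subgroup of `Ω` above the product group is the product group or `Ω`. -/
theorem overgroup_cases (d : OS F L S V) {K : Subgroup (orthGroup d.Q)}
    (ht : ∀ g, d.IsT g → g ∈ commutator (orthGroup d.Q) → g ∈ K) :
    (∀ g ∈ K, d.IsT g) ∨ commutator (orthGroup d.Q) ≤ K := by
  classical
  set ε := negOrth d.Q with hε
  have hεc : ∀ g : orthGroup d.Q, ε * g = g * ε := negOrth_central
  have hεε : ε * ε = 1 := orth_ext fun x => by simp [hε, orth_mul_apply, negOrth_apply, orth_one_apply]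
  let H : Subgroup (orthGroup d.Q) :=
    { carrier := {g | g ∈ K ∨ ε * g ∈ K}
      one_mem' := Or.inl (one_mem K)
      mul_mem' := fun {a b} ha hb => by
        rcases ha with ha | ha <;> rcases hb with hb | hb
        · exact Or.inl (mul_mem ha hb)
        · refine Or.inr ?_
          rw [← mul_assoc, hεc a, mul_assoc]; exact mul_mem ha hb
        · refine Or.inr ?_
          rw [← mul_assoc]; exact mul_mem ha hb
        · refine Or.inl ?_
          have := mul_mem ha hb
          rwa [mul_assoc, ← mul_assoc a, ← hεc a, mul_assoc, ← mul_assoc ε ε, hεε, one_mul] at this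
      inv_mem' := fun {a} ha => by
        rcases ha with ha | ha
        · exact Or.inl (inv_mem ha)
        · refine Or.inr ?_
          have := inv_mem ha
          rwa [mul_inv_rev, inv_eq_of_mul_eq_one_right hεε, ← hεc] at this }
  have hH : d.Over H := ⟨fun g hg hg' => Or.inl (ht g hg hg'), Or.inr (by rw [hεε]; exact one_mem K)⟩
  by_cases hS : d.Small H
  · exact Or.inl fun g hg => all_tens hH hS (Or.inl hg)
  refine Or.inr ?_
  have h5 : 5 ≤ Module.finrank F V := by
    rw [d.finrank_eq]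
    have h1 := d.five
    have h2 := d.three
    calc 5 ≤ Module.finrank F L * 1 := by omega
      _ ≤ _ := Nat.mul_le_mul le_rfl (by omega)
  have hle := le_of_not_small hH hS
  have hsimp : ∀ a b : orthGroup d.Q, ⁅ε * a, b⁆ = ⁅a, b⁆ := fun a b => by
    rw [commutatorElement_def, commutatorElement_def, mul_inv_rev, inv_eq_of_mul_eq_one_right hεε, ← hεc a⁻¹,
      ← mul_assoc (ε * a * b) ε, ← hεc (ε * a * b), mul_assoc ε a b, ← mul_assoc ε ε, hεε, one_mul]
  rw [← commutator_perfect d.nd h5]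
  refine (Subgroup.commutator_mono hle hle).trans (Subgroup.commutator_le.2 fun a ha b hb => ?_)
  have hK : ∀ x y, x ∈ K → y ∈ K → ⁅x, y⁆ ∈ K := fun x y hx hy => by
    rw [commutatorElement_def]; exact mul_mem (mul_mem (mul_mem hx hy) (inv_mem hx)) (inv_mem hy)
  have hflip : ∀ a b : orthGroup d.Q, ⁅a, ε * b⁆ = ⁅a, b⁆ := fun a b => by
    rw [← inv_inj, commutatorElement_inv, commutatorElement_inv, hsimp]
  rcases ha with ha | ha <;> rcases hb with hb | hb
  · exact hK _ _ ha hb
  · rw [← hflip]; exact hK _ _ ha hb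
  · rw [← hsimp]; exact hK _ _ ha hb
  · rw [← hsimp, ← hflip]; exact hK _ _ ha hb

end OS

/-- The quadratic form of a symmetric bilinear form. -/
noncomputable def quadOf {F : Type*} [Field F] {M : Type*} [AddCommGroup M] [Module F M]
    (B : LinearMap.BilinForm F M) : QuadraticForm F M := (2 : F)⁻¹ • B.toQuadraticMap

theorem polB_quadOf {F : Type*} [Field F] {M : Type*} [AddCommGroup M] [Module F M] (h2 : (2 : F) ≠ 0)
    (B : LinearMap.BilinForm F M) (hB : ∀ x y, B x y = B y x) : polB (quadOf B) = B := by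
  refine LinearMap.ext fun x => LinearMap.ext fun y => ?_
  rw [polB_apply, QuadraticMap.polar]
  simp only [quadOf, smul_apply, LinearMap.BilinMap.toQuadraticMap_apply, map_add, LinearMap.add_apply,
    smul_eq_mul, hB y x]
  field_simp
  ring

/-- The stabiliser of the product of two odd-dimensional symmetric forms is maximal in `Ω`. -/
theorem tensorOrthMax {F : Type*} [Field F] [Fintype F] (hodd : Odd (Fintype.card F)) (m : ℕ) (n₁ n₂ : ℕ)
    (h1 : 3 ≤ n₁) (h12 : n₁ < n₂) (hex : ¬ (Fintype.card F = 3 ∧ n₁ = 3))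
    (e : (Unit ⊕ (Fin m ⊕ Fin m)) ≃ Fin n₁ × Fin n₂)
    (P : Matrix.GeneralLinearGroup (Unit ⊕ (Fin m ⊕ Fin m)) F) (f₁ : (Fin n₁ → F) → (Fin n₁ → F) → F)
    (f₂ : (Fin n₂ → F) → (Fin n₂ → F) → F) (hf₁ : Cfsg.Geo.IsSymmetricForm f₁) (hf₂ : Cfsg.Geo.IsSymmetricForm f₂)
    (hT : Cfsg.Geo.IsTensorFormStructure id (QuadraticMap.polar (Cfsg.quadFormOdd m F)) f₁ f₂ e P) :
    Cfsg.Geo.IsMaximalIn (Cfsg.Geo.omegaGL (Cfsg.quadFormOdd m F))
      (Cfsg.Geo.tensorProductSubgroup n₁ n₂ e P ⊓ Cfsg.Geo.omegaGL (Cfsg.quadFormOdd m F)) := by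
  classical
  have h2 : (2 : F) ≠ 0 := two_ne_zero_of_odd_card hodd
  rw [← coe_qOdd] at hT ⊢
  obtain ⟨c, hc, hT⟩ := hT
  -- parity
  have hcard : n₁ * n₂ = 2 * m + 1 := by
    have := Fintype.card_congr e
    simp at this
    omega
  have hodd' : Odd (n₁ * n₂) := ⟨m, hcard⟩
  have ho₁ : Odd n₁ := (Nat.odd_mul.1 hodd').1
  have ho₂ : Odd n₂ := (Nat.odd_mul.1 hodd').2
  let Φ : (Fin n₂ → F) ⊗[F] (Fin n₁ → F) ≃ₗ[F] (Unit ⊕ (Fin m ⊕ Fin m) → F) :=
    TensorProduct.comm F _ _ ≪≫ₗ H49.tensCoord n₁ n₂ F ≪≫ₗ LinearEquiv.funCongrLeft F F e ≪≫ₗ glEquiv P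
  have hΦ : ∀ a x, Φ (a ⊗ₜ x) = (P : Matrix (Unit ⊕ (Fin m ⊕ Fin m)) (Unit ⊕ (Fin m ⊕ Fin m)) F) *ᵥ
      ((fun ij => x ij.1 * a ij.2) ∘ e) := fun a x => by
    show glEquiv P (LinearEquiv.funCongrLeft F F e (H49.tensCoord n₁ n₂ F (TensorProduct.comm F _ _ (a ⊗ₜ x)))) = _
    rw [TensorProduct.comm_tmul, H49.tensCoord_tmul, glEquiv_apply]
    rfl
  have b1 := hf₁.bilinear
  have b2 := hf₂.bilinear
  let B₁ : LinearMap.BilinForm F (Fin n₁ → F) :=
    LinearMap.mk₂ F f₁ b1.add_left b1.smul_left b1.add_right b1.smul_right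
  let B₂ : LinearMap.BilinForm F (Fin n₂ → F) :=
    c • LinearMap.mk₂ F f₂ b2.add_left b2.smul_left b2.add_right b2.smul_right
  have hB₁ : ∀ x y, B₁ x y = B₁ y x := fun x y => hf₁.symm x y
  have hB₂ : ∀ x y, B₂ x y = B₂ y x := fun x y => by simp [B₂, hf₂.symm x y]
  have n1 : B₁.Nondegenerate := by
    refine ⟨fun a h => ?_, fun a h => ?_⟩
    · by_contra ha
      obtain ⟨w, hw⟩ := (hf₁.nondegenerate a ha).2
      exact hw (h w)
    · by_contra ha
      obtain ⟨w, hw⟩ := (hf₁.nondegenerate a ha).2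
      exact hw (by rw [hf₁.symm]; exact h w)
  have n2 : B₂.Nondegenerate := by
    refine ⟨fun a h => ?_, fun a h => ?_⟩
    · by_contra ha
      obtain ⟨w, hw⟩ := (hf₂.nondegenerate a ha).2
      exact hw (by simpa [B₂, hc] using h w)
    · by_contra ha
      obtain ⟨w, hw⟩ := (hf₂.nondegenerate a ha).2
      exact hw (by rw [hf₂.symm]; simpa [B₂, hc] using h w)
  let d : OS F (Fin n₂ → F) (Fin n₁ → F) (Unit ⊕ (Fin m ⊕ Fin m) → F) :=
    { Φ := Φ
      QL := quadOf B₂
      QS := quadOf B₁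
      Q := qOdd m F
      ndL := by rw [polB_quadOf h2 B₂ hB₂]; exact n2
      ndS := by rw [polB_quadOf h2 B₁ hB₁]; exact n1
      nd := qOdd_nondeg h2 m
      pure := fun a b x y => by
        rw [polB_quadOf h2 B₂ hB₂, polB_quadOf h2 B₁ hB₁, hΦ, hΦ, polB_apply, hT]
        show _ = c * f₂ a b * f₁ x y
        rw [H49.bilin_eq_gram f₁ b1, H49.bilin_eq_gram f₂ b2, mul_assoc]
        congr 1
        rw [mul_comm (∑ i : Fin n₂, _), Finset.sum_mul_sum]
        simp only [Cfsg.Geo.formOfGram, Fintype.sum_prod_type, Matrix.kroneckerMap_apply, id, Finset.sum_mul_sum]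
        refine Finset.sum_congr rfl fun i _ => Finset.sum_congr rfl fun j _ => ?_
        refine Finset.sum_congr rfl fun k _ => Finset.sum_congr rfl fun l _ => ?_
        ring
      two := h2
      oddL := by rw [Module.finrank_fin_fun]; exact ho₂
      oddS := by rw [Module.finrank_fin_fun]; exact ho₁
      three := by rw [Module.finrank_fin_fun]; exact h1
      gap := by
        rw [Module.finrank_fin_fun, Module.finrank_fin_fun]
        obtain ⟨i, hi⟩ := ho₁; obtain ⟨j, hj⟩ := ho₂; omega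
      excl := by rw [Module.finrank_fin_fun, Nat.card_eq_fintype_card]; exact hex }
  have ht : ∀ a x, d.t a x = Φ (a ⊗ₜ x) := fun a x => rfl
  -- products correspond
  have hkron : ∀ A B, glEquiv (P * Cfsg.Geo.glReindex e.symm (H49.kronGL A B) * P⁻¹) =
      d.tens (glEquiv B) (glEquiv A) := by
    intro A B
    refine d.equiv_ext fun a x => ?_
    rw [d.tens_t, ht, ht, hΦ, hΦ, glEquiv_apply, glEquiv_apply, glEquiv_apply, Units.val_mul, Units.val_mul,
      Matrix.mulVec_mulVec, Matrix.mul_assoc, ← Units.val_mul (P⁻¹) P, inv_mul_cancel, Units.val_one, mul_one,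
      ← Matrix.mulVec_mulVec]
    congr 1
    rw [← H49.kron_mulVec_pure]
    show (Matrix.reindexAlgEquiv F F e.symm ((H49.kronGL A B : GL (Fin n₁ × Fin n₂) F) : Matrix _ _ F)) *ᵥ _ = _
    rw [Matrix.reindexAlgEquiv_apply]
    funext i
    simp only [Matrix.mulVec, dotProduct, Matrix.reindex_apply, Matrix.submatrix_apply, Equiv.symm_symm,
      Function.comp_apply]
    exact e.sum_comp fun k => ((H49.kronGL A B : GL (Fin n₁ × Fin n₂) F) : Matrix _ _ F) (e i) k * (x k.1 * a k.2)
  have hiff : ∀ (g : GL (Unit ⊕ (Fin m ⊕ Fin m)) F), g ∈ Cfsg.Geo.tensorProductSubgroup n₁ n₂ e P ↔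
      ∃ a b, glEquiv g = d.tens a b := by
    intro g
    rw [H49.mem_tensorProductSubgroup]
    constructor
    · rintro ⟨A, B, rfl⟩
      exact ⟨_, _, hkron A B⟩
    · rintro ⟨a, b, h⟩
      refine ⟨glEquiv.symm b, glEquiv.symm a, glEquiv.injective ?_⟩
      rw [hkron, MulEquiv.apply_symm_apply, MulEquiv.apply_symm_apply, h]
  have hΩ : ∀ g, g ∈ Cfsg.Geo.omegaGL ⇑(qOdd m F) ↔
      ∃ h ∈ commutator (orthGroup d.Q), h.1 = glEquiv g := by
    intro g
    constructor
    · rintro ⟨k, hk, rfl⟩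
      exact ⟨toOrth _ k, (mem_Omega_iff k).1 hk, rfl⟩
    · rintro ⟨h, hh, he⟩
      refine ⟨(toOrth (qOdd m F)).symm h, (mem_Omega_iff _).2 (by rwa [MulEquiv.apply_symm_apply]), ?_⟩
      exact glEquiv.injective (by rw [← he]; exact glEquiv.apply_symm_apply h.1)
  refine ⟨lt_of_le_of_ne inf_le_right fun heq => ?_, fun M hle hM => ?_⟩
  · obtain ⟨g, hg, hgT⟩ := d.exists_not_isT
    obtain ⟨g', hg'⟩ := glEquiv.surjective g.1
    have hmem : g' ∈ Cfsg.Geo.omegaGL ⇑(qOdd m F) := (hΩ g').2 ⟨g, hg, hg'.symm⟩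
    rw [← heq] at hmem
    obtain ⟨a, b, hab⟩ := (hiff g').1 (Subgroup.mem_inf.1 hmem).1
    exact hgT ⟨a, b, hg'.symm.trans hab⟩
  let K : Subgroup (orthGroup d.Q) := (M.map glEquiv.toMonoidHom).comap (orthGroup d.Q).subtype
  rcases d.overgroup_cases (K := K) (fun g hg hg' => by
    obtain ⟨g', hg''⟩ := glEquiv.surjective g.1
    obtain ⟨a, b, hab⟩ := hg
    exact ⟨g', hle ⟨(hiff g').2 ⟨a, b, hg''.trans hab⟩, (hΩ g').2 ⟨g, hg', hg''.symm⟩⟩, hg''⟩) with htens | hall
  · refine Or.inl (le_antisymm (fun g hg => ⟨(hiff g).2 ?_, hM hg⟩) hle)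
    obtain ⟨h, -, he⟩ := (hΩ g).1 (hM hg)
    obtain ⟨a, b, hab⟩ := htens h ⟨g, hg, he.symm⟩
    exact ⟨a, b, he.symm.trans hab⟩
  · refine Or.inr (le_antisymm hM fun g hg => ?_)
    obtain ⟨h, hh, he⟩ := (hΩ g).1 hg
    obtain ⟨g', hg', he'⟩ := hall hh
    rw [← glEquiv.injective (he'.trans he)]
    exact hg'

end H98.TO
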