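import Cfsg.Agent.H98.TensOrth.Step
import Cfsg.Agent.H43.Forms
import Mathlib.FieldTheory.ChevalleyWarning

/-!
Kernel vectors with an isotropic orthogonal, by the theorem of Chevalley and Warning.
-/

set_option autoImplicit false
set_option linter.unusedSectionVars false

namespace H98.TO

open H43

variable {F : Type*} [Field F] [Finite F]
  {L : Type*} [AddCommGroup L] [Module F L] [FiniteDimensional F L]
  {S : Type*} [AddCommGroup S] [Module F S] [FiniteDimensional F S]
  {V : Type*} [AddCommGroup V] [Module F V] [FiniteDimensional F V]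

/-- A square class all of whose vectors have an isotropic orthogonal. -/
theorem exists_iso_class {W : Type*} [AddCommGroup W] [Module F W] [FiniteDimensional F W]
    {Q : QuadraticForm F W} (hQ : (polB Q).Nondegenerate) (h2 : (2 : F) ≠ 0) (h3 : Module.finrank F W = 3) :
    ∃ D : F, D ≠ 0 ∧ ∀ e y, polB Q e e = -(D * y * y) → ∃ c, c ≠ 0 ∧ Q c = 0 ∧ polB Q e c = 0 := by
  classical
  haveI := Fintype.ofFinite F
  have hchar : ringChar F ≠ 2 := fun h => h2 (by
    have := ringChar.Nat.cast_ringChar (R := F)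
    rw [h] at this
    exact_mod_cast this)
  obtain ⟨α, hα⟩ := FiniteField.exists_nonsquare hchar
  obtain ⟨b, horth, -, -⟩ := exists_orth_basis h2 (polB Q) ⟨fun x y => polB_comm x y⟩ hQ (n := 2) h3 α hα
  set d₁ := polB Q (b 0) (b 0) with hd₁
  set d₂ := polB Q (b 1) (b 1) with hd₂
  set d₃ := polB Q (b 2) (b 2) with hd₃
  have hB : ∀ x y : Fin 3 → F, polB Q (∑ i, x i • b i) (∑ i, y i • b i) =
      x 0 * y 0 * d₁ + x 1 * y 1 * d₂ + x 2 * y 2 * d₃ := by
    intro x y
    simp only [Fin.sum_univ_three, map_add, map_smul, LinearMap.add_apply, LinearMap.smul_apply, smul_eq_mul,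
      horth 0 1 (by decide), horth 0 2 (by decide), horth 1 0 (by decide), horth 1 2 (by decide),
      horth 2 0 (by decide), horth 2 1 (by decide), ← hd₁, ← hd₂, ← hd₃]
    ring
  have hne : ∀ i, polB Q (b i) (b i) ≠ 0 := fun i h0 => b.ne_zero i (hQ.1 _ fun z => by
    have : polB Q (b i) = 0 := b.ext fun j => by
      by_cases hij : i = j
      · rw [← hij, h0, LinearMap.zero_apply]
      · rw [horth i j hij, LinearMap.zero_apply]
    rw [this, LinearMap.zero_apply])
  have hmk : ∀ c : Fin 3 → F, c ≠ 0 → (∑ i, c i • b i) ≠ 0 := fun c hc h =>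
    hc (funext fun i => Fintype.linearIndependent_iff.1 b.linearIndependent c h i)
  have hsing : ∀ x : W, polB Q x x = 0 → Q x = 0 := fun x hx => by
    rw [polB_self] at hx; exact (mul_eq_zero.1 hx).resolve_left h2
  refine ⟨d₁ * d₂ * d₃, mul_ne_zero (mul_ne_zero (hne 0) (hne 1)) (hne 2), fun e y he => ?_⟩
  set E : Fin 3 → F := fun i => b.repr e i with hE
  have heq : e = ∑ i, E i • b i := (b.sum_repr e).symm
  rw [heq] at he ⊢
  rw [hB] at he
  suffices h : ∃ c : Fin 3 → F, c ≠ 0 ∧ c 0 * c 0 * d₁ + c 1 * c 1 * d₂ + c 2 * c 2 * d₃ = 0 ∧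
      E 0 * c 0 * d₁ + E 1 * c 1 * d₂ + E 2 * c 2 * d₃ = 0 by
    obtain ⟨c, hc, h1, h1'⟩ := h
    exact ⟨_, hmk c hc, hsing _ (by rw [hB]; exact h1), by rw [hB]; exact h1'⟩
  set M := E 0 * E 0 * d₁ + E 1 * E 1 * d₂ with hM
  by_cases hM0 : M = 0
  · by_cases h01 : E 0 = 0 ∧ E 1 = 0
    · obtain ⟨h0, h1⟩ := h01
      rw [hM, h0, h1] at he
      by_cases hE2 : E 2 = 0
      · obtain ⟨z, hz0, hz⟩ := exists_singular Q (le_of_eq h3.symm)
        refine ⟨fun i => b.repr z i, fun h => hz0 (by rw [← b.sum_repr z]; simp [fun i => congrFun h i]), ?_, ?_⟩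
        · rw [← hB, b.sum_repr z, polB_self, hz, mul_zero]
        · rw [h0, h1, hE2]; ring
      · refine ⟨![d₂ * y, E 2, 0], fun h => hE2 (by simpa using congrFun h 1), ?_, ?_⟩
        · have e1 : d₃ * (E 2 * E 2 + d₁ * d₂ * (y * y)) = 0 := by linear_combination he
          have e2 := (mul_eq_zero.1 e1).resolve_left (hne 2)
          simp only [Matrix.cons_val_zero, Matrix.cons_val_one, Matrix.cons_val_two, Matrix.head_cons,
            Matrix.tail_cons]
          linear_combination d₂ * e2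
        · simp [h0, h1]
    · refine ⟨![E 0, E 1, 0], fun h => h01 ⟨by simpa using congrFun h 0, by simpa using congrFun h 1⟩, ?_, ?_⟩
      · simp only [Matrix.cons_val_zero, Matrix.cons_val_one, Matrix.cons_val_two, Matrix.head_cons,
          Matrix.tail_cons]
        linear_combination hM0
      · simp only [Matrix.cons_val_zero, Matrix.cons_val_one, Matrix.cons_val_two, Matrix.head_cons,
          Matrix.tail_cons]
        linear_combination hM0
  · refine ⟨![d₃ * y * d₂ * E 1 + E 0 * E 2 * d₃, -(d₃ * y * d₁ * E 0) + E 1 * E 2 * d₃, -M],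
      fun h => hM0 (neg_eq_zero.1 (by simpa using congrFun h 2)), ?_, ?_⟩
    · simp only [Matrix.cons_val_zero, Matrix.cons_val_one, Matrix.cons_val_two, Matrix.head_cons,
        Matrix.tail_cons]
      linear_combination (d₃ * M) * he
    · simp only [Matrix.cons_val_zero, Matrix.cons_val_one, Matrix.cons_val_two, Matrix.head_cons,
        Matrix.tail_cons]
      ring

namespace OS

open MvPolynomial

variable {d : OS F L S V}

/-- Some singular column carries a nice vector orthogonally to itself. -/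
theorem exists_kernel_nice (hl : Module.finrank F L = 5) (g : orthGroup d.Q)
    (hskew : ∀ u, d.QL u = 0 → ∀ e e', polB d.Q (g.1 (d.t u e)) (d.t u e') = -polB d.Q (g.1 (d.t u e')) (d.t u e)) :
    ∃ u e, d.QL u = 0 ∧ u ≠ 0 ∧ e ≠ 0 ∧ Nice d e ∧ d.C u (g.1 (d.t u e)) = 0 := by
  classical
  haveI := Fintype.ofFinite F
  obtain ⟨p, hp⟩ := CharP.exists F
  haveI := hp
  haveI : Fact p.Prime := ⟨CharP.char_is_prime F p⟩
  have hs : Module.finrank F S = 3 := by
    have := d.three; have := d.gap; omega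
  obtain ⟨D, hD, hclass⟩ := exists_iso_class d.ndS d.two hs
  have hchar : ringChar F ≠ 2 := fun h => d.two (by
    have := ringChar.Nat.cast_ringChar (R := F)
    rw [h] at this
    exact_mod_cast this)
  obtain ⟨ν, hν⟩ := FiniteField.exists_nonsquare hchar
  let bL := (Module.finBasisOfFinrankEq F L hl)
  let bS := (Module.finBasisOfFinrankEq F S hs)
  let u : (Fin 5 ⊕ Fin 2 → F) → L := fun x => ∑ i, x (.inl i) • bL i
  let ω : (Fin 5 ⊕ Fin 2 → F) → Fin 3 → Fin 3 → F := fun x j k =>
    polB d.Q (g.1 (d.t (u x) (bS j))) (d.t (u x) (bS k))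
  let η : (Fin 5 ⊕ Fin 2 → F) → Fin 3 → F := fun x => ![ω x 1 2, ω x 2 0, ω x 0 1]
  let Wp : Fin 3 → Fin 3 → MvPolynomial (Fin 5 ⊕ Fin 2) F := fun j k => ∑ i : Fin 5, ∑ i' : Fin 5,
    MvPolynomial.C (polB d.Q (g.1 (d.t (bL i) (bS j))) (d.t (bL i') (bS k))) * (X (Sum.inl i) * X (Sum.inl i'))
  let ηp : Fin 3 → MvPolynomial (Fin 5 ⊕ Fin 2) F := ![Wp 1 2, Wp 2 0, Wp 0 1]
  let f₁ : MvPolynomial (Fin 5 ⊕ Fin 2) F := ∑ i : Fin 5, ∑ i' : Fin 5,
    MvPolynomial.C (polB d.QL (bL i) (bL i')) * (X (Sum.inl i) * X (Sum.inl i'))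
  let Y : MvPolynomial (Fin 5 ⊕ Fin 2) F := X (Sum.inr 0) * X (Sum.inr 0) + MvPolynomial.C (-ν) * (X (Sum.inr 1) * X (Sum.inr 1))
  let f₂ : MvPolynomial (Fin 5 ⊕ Fin 2) F := (∑ j : Fin 3, ∑ k : Fin 3,
    MvPolynomial.C (polB d.QS (bS j) (bS k)) * (ηp j * ηp k)) + MvPolynomial.C D * (Y * Y)
  have hXX : ∀ (a : F) (i i' : Fin 5 ⊕ Fin 2),
      (MvPolynomial.C a * (X i * X i') : MvPolynomial (Fin 5 ⊕ Fin 2) F).totalDegree ≤ 2 := fun a i i' => by
    refine (totalDegree_mul _ _).trans ?_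
    rw [totalDegree_C, zero_add]
    exact (totalDegree_mul _ _).trans (by simp [totalDegree_X])
  have hW : ∀ j k, (Wp j k).totalDegree ≤ 2 := fun j k =>
    (totalDegree_finsetSum _ _).trans (Finset.sup_le fun i _ =>
      (totalDegree_finsetSum _ _).trans (Finset.sup_le fun i' _ => hXX _ _ _))
  have hη : ∀ j, (ηp j).totalDegree ≤ 2 := fun j => by fin_cases j <;> exact hW _ _
  have hY : Y.totalDegree ≤ 2 := (totalDegree_add _ _).trans (max_le
    ((totalDegree_mul _ _).trans (by simp [totalDegree_X])) (hXX _ _ _))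
  have h1 : f₁.totalDegree ≤ 2 := (totalDegree_finsetSum _ _).trans (Finset.sup_le fun i _ =>
      (totalDegree_finsetSum _ _).trans (Finset.sup_le fun i' _ => hXX _ _ _))
  have hmul : ∀ (a : F) (P R : MvPolynomial (Fin 5 ⊕ Fin 2) F), P.totalDegree ≤ 2 → R.totalDegree ≤ 2 →
      (MvPolynomial.C a * (P * R)).totalDegree ≤ 4 := fun a P R hP hR => by
    refine (totalDegree_mul _ _).trans ?_
    rw [totalDegree_C, zero_add]
    have := totalDegree_mul P R
    omega
  have h2 : f₂.totalDegree ≤ 4 := (totalDegree_add _ _).trans (max_le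
    ((totalDegree_finsetSum _ _).trans (Finset.sup_le fun i _ =>
      (totalDegree_finsetSum _ _).trans (Finset.sup_le fun i' _ => hmul _ _ _ (hη i) (hη i'))))
    (hmul _ _ _ hY hY))
  have hdvd := char_dvd_card_solutions_of_add_lt p (f₁ := f₁) (f₂ := f₂) (by simp; omega)
  have hevW : ∀ x j k, eval x (Wp j k) = ω x j k := fun x j k => by
    simp only [Wp, ω, u, map_sum, map_mul, eval_C, eval_X, map_smul, LinearMap.smul_apply, LinearMap.sum_apply,
      smul_eq_mul, Finset.mul_sum]
    conv_lhs => rw [Finset.sum_comm]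
    refine Finset.sum_congr rfl fun i _ => Finset.sum_congr rfl fun i' _ => ?_
    ring
  have hevη : ∀ x j, eval x (ηp j) = η x j := fun x j => by fin_cases j <;> exact hevW x _ _
  have hev1 : ∀ x, eval x f₁ = polB d.QL (u x) (u x) := fun x => by
    simp only [f₁, u, map_sum, map_mul, eval_C, eval_X, map_smul, LinearMap.smul_apply, LinearMap.sum_apply,
      smul_eq_mul, Finset.mul_sum]
    conv_lhs => rw [Finset.sum_comm]
    refine Finset.sum_congr rfl fun i _ => Finset.sum_congr rfl fun i' _ => ?_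
    ring
  have hev2 : ∀ x, eval x f₂ = polB d.QS (∑ j, η x j • bS j) (∑ j, η x j • bS j) +
      D * (x (.inr 0) * x (.inr 0) - ν * (x (.inr 1) * x (.inr 1))) ^ 2 := fun x => by
    simp only [f₂, Y, map_add, map_sum, map_mul, eval_C, eval_X, hevη, map_smul, LinearMap.smul_apply,
      LinearMap.sum_apply, smul_eq_mul, Finset.mul_sum]
    congr 1
    · conv_lhs => rw [Finset.sum_comm]
      refine Finset.sum_congr rfl fun i _ => Finset.sum_congr rfl fun i' _ => ?_
      ring
    · ring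
  obtain ⟨x, hx0, hx1, hx2⟩ : ∃ x, x ≠ 0 ∧ eval x f₁ = 0 ∧ eval x f₂ = 0 := by
    have hz : eval (0 : Fin 5 ⊕ Fin 2 → F) f₁ = 0 ∧ eval (0 : Fin 5 ⊕ Fin 2 → F) f₂ = 0 := by
      refine ⟨by rw [hev1]; simp [u], ?_⟩
      rw [hev2]
      have : ∀ j, η 0 j = 0 := fun j => by fin_cases j <;> simp [η, ω, u]
      simp [this]
    by_contra hcon
    push Not at hcon
    haveI : Subsingleton {x : Fin 5 ⊕ Fin 2 → F // eval x f₁ = 0 ∧ eval x f₂ = 0} := ⟨fun a b => Subtype.ext (by
      rcases eq_or_ne a.1 0 with ha | ha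
      · rcases eq_or_ne b.1 0 with hb | hb
        · rw [ha, hb]
        · exact absurd b.2.2 (hcon _ hb b.2.1)
      · exact absurd a.2.2 (hcon _ ha a.2.1))⟩
    haveI : Nonempty {x : Fin 5 ⊕ Fin 2 → F // eval x f₁ = 0 ∧ eval x f₂ = 0} := ⟨⟨0, hz⟩⟩
    rw [Fintype.card_eq_one_iff.2 ⟨Classical.arbitrary _, fun a => Subsingleton.elim a _⟩] at hdvd
    exact (Fact.out : p.Prime).ne_one (Nat.dvd_one.1 hdvd)
  rw [hev1, polB_self, mul_eq_zero] at hx1
  have hu : d.QL (u x) = 0 := hx1.resolve_left d.two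
  rw [hev2] at hx2
  set y := x (.inr 0) * x (.inr 0) - ν * (x (.inr 1) * x (.inr 1)) with hy
  set e := ∑ j, η x j • bS j with he
  have hu0 : u x ≠ 0 := by
    intro h
    have hη0 : ∀ j, η x j = 0 := fun j => by fin_cases j <;> simp [η, ω, h]
    have he0 : e = 0 := by rw [he]; simp [hη0]
    rw [he0] at hx2
    simp only [map_zero, zero_add, mul_eq_zero, hD, false_or, pow_eq_zero_iff, ne_eq, OfNat.ofNat_ne_zero,
      not_false_eq_true] at hx2
    have hr : x (.inr 1) = 0 := by
      by_contra hne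
      exact hν ⟨x (.inr 0) / x (.inr 1), by field_simp; linear_combination -hx2⟩
    have hr0 : x (.inr 0) = 0 := mul_self_eq_zero.1 (by rw [hy, hr] at hx2; linear_combination hx2)
    have hl0 : ∀ i, x (.inl i) = 0 := Fintype.linearIndependent_iff.1 bL.linearIndependent _ h
    exact hx0 (funext fun i => match i with
      | .inl i => hl0 i
      | .inr i => by fin_cases i <;> assumption)
  have hωs : ∀ j k, ω x j k = -ω x k j := fun j k => hskew _ hu _ _
  have hωd : ∀ j, ω x j j = 0 := fun j =>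
    (mul_eq_zero.1 (show (2 : F) * ω x j j = 0 by linear_combination hωs j j)).resolve_left d.two
  by_cases he0 : e = 0
  · -- the pairing vanishes
    have hη0 : ∀ j, η x j = 0 := Fintype.linearIndependent_iff.1 bS.linearIndependent _ he0
    have hω0 : ∀ j k, ω x j k = 0 := by
      intro j k
      have a := hη0 0
      have b := hη0 1
      have c := hη0 2
      simp only [η, Matrix.cons_val_zero, Matrix.cons_val_one, Matrix.cons_val_two, Matrix.head_cons,
        Matrix.tail_cons] at a b c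
      fin_cases j <;> fin_cases k <;> first
        | exact hωd _
        | exact a
        | exact b
        | exact c
        | exact (hωs _ _).trans (neg_eq_zero.2 a)
        | exact (hωs _ _).trans (neg_eq_zero.2 b)
        | exact (hωs _ _).trans (neg_eq_zero.2 c)
    obtain ⟨z, hz0, hz⟩ := exists_singular d.QS (le_of_eq hs.symm)
    refine ⟨u x, z, hu, hu0, hz0, ⟨z, hz0, hz, polB_self_zero hz⟩, ?_⟩
    have hall : d.C (u x) ∘ₗ g.1.toLinearMap ∘ₗ d.t (u x) = 0 := bS.ext fun j => by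
      refine d.ndS.1 _ fun w => ?_
      have : polB d.QS ((d.C (u x) ∘ₗ g.1.toLinearMap ∘ₗ d.t (u x)) (bS j)) = 0 := bS.ext fun k => by
        rw [LinearMap.comp_apply, LinearMap.comp_apply, d.b_C, LinearMap.zero_apply]
        exact hω0 j k
      rw [this, LinearMap.zero_apply]
    exact LinearMap.congr_fun hall z
  · refine ⟨u x, e, hu, hu0, he0, hclass e y (by linear_combination hx2), d.ndS.1 _ fun w => ?_⟩
    have : polB d.QS (d.C (u x) (g.1 (d.t (u x) e))) = 0 := bS.ext fun k => by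
      rw [d.b_C, LinearMap.zero_apply, he]
      simp only [Fin.sum_univ_three, map_add, map_smul, LinearMap.add_apply, LinearMap.smul_apply, smul_eq_mul]
      show η x 0 * ω x 0 k + η x 1 * ω x 1 k + η x 2 * ω x 2 k = 0
      simp only [η, Matrix.cons_val_zero, Matrix.cons_val_one, Matrix.cons_val_two, Matrix.head_cons,
        Matrix.tail_cons]
      fin_cases k
      · show ω x 1 2 * ω x 0 0 + ω x 2 0 * ω x 1 0 + ω x 0 1 * ω x 2 0 = 0
        linear_combination ω x 1 2 * hωd 0 + ω x 2 0 * hωs 1 0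
      · show ω x 1 2 * ω x 0 1 + ω x 2 0 * ω x 1 1 + ω x 0 1 * ω x 2 1 = 0
        linear_combination ω x 2 0 * hωd 1 + ω x 0 1 * hωs 2 1
      · show ω x 1 2 * ω x 0 2 + ω x 2 0 * ω x 1 2 + ω x 0 1 * ω x 2 2 = 0
        linear_combination ω x 0 1 * hωd 2 + ω x 1 2 * hωs 0 2
    rw [this, LinearMap.zero_apply]

end OS

end H98.TO
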