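import Cfsg.Agent.H98.TensOrth.Stab

/-!
Unipotent products of small rank, and conjugates of Siegel elements.
-/

set_option autoImplicit false
set_option linter.unusedSectionVars false

namespace H98.TO

open H43
open scoped TensorProduct

variable {F : Type*} [Field F] [Finite F]
  {L : Type*} [AddCommGroup L] [Module F L] [FiniteDimensional F L]
  {S : Type*} [AddCommGroup S] [Module F S] [FiniteDimensional F S]
  {V : Type*} [AddCommGroup V] [Module F V] [FiniteDimensional F V]

namespace OS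

variable {d : OS F L S V} {H : Subgroup (orthGroup d.Q)}

include d in
theorem exists_bS_one : ∃ e₁ e₂ : S, e₁ ≠ 0 ∧ polB d.QS e₁ e₂ = 1 := by
  obtain ⟨e₁, he₁⟩ := Module.finrank_pos_iff_exists_ne_zero.1 (show 0 < Module.finrank F S by
    have := d.three; omega)
  obtain ⟨e₂, he₂⟩ := exists_polB_eq d.ndS he₁ 1
  exact ⟨e₁, e₂, he₁, he₂⟩

theorem isom_factors {g : orthGroup d.Q} {a : L ≃ₗ[F] L} {c : S ≃ₗ[F] S} (hg : g.1 = d.tens a c) (x y : L)
    (e e' : S) : polB d.QL (a x) (a y) * polB d.QS (c e) (c e') = polB d.QL x y * polB d.QS e e' := by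
  rw [← d.f_t, ← d.f_t, ← d.tens_t, ← d.tens_t, ← hg, orth_polB_map]

/-- A product of order dividing the characteristic is a product of unipotent isometries. -/
theorem unipotent_factor (p : ℕ) [Fact p.Prime] [CharP F p] {g : orthGroup d.Q} (hg : d.IsT g)
    (hp : g ^ p = 1) : ∃ (a : orthGroup d.QL) (c : orthGroup d.QS), g = d.liftL a * d.liftS c ∧
      ((c.1 : S →ₗ[F] S) - 1) ^ p = 0 := by
  classical
  haveI := Fintype.ofFinite F
  obtain ⟨a₀, c₀, hac⟩ := hg
  obtain ⟨u₁, u₁', -, hp₁, -⟩ := exists_sing_pair d.ndL d.five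
  obtain ⟨e₁, e₂, he₁, he₂⟩ := exists_bS_one (d := d)
  have hpow : ∀ n : ℕ, (g ^ n).1 = d.tens (a₀ ^ n) (c₀ ^ n) := by
    intro n
    induction n with
    | zero => rw [pow_zero, pow_zero, pow_zero, d.tens_one]; rfl
    | succ n ih => rw [pow_succ, pow_succ, pow_succ, Subgroup.coe_mul, ih, hac, d.tens_mul]
  have h1 : ∀ x e, d.t ((a₀ ^ p) x) ((c₀ ^ p) e) = d.t x e := fun x e => by
    rw [← d.tens_t, ← hpow, hp]; rfl
  -- the scalar of `a₀ ^ p`
  obtain ⟨lam, hlam0, hlam⟩ : ∃ lam : F, lam ≠ 0 ∧ ∀ x, (a₀ ^ p) x = lam • x := by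
    have hne : (c₀ ^ p) e₁ ≠ 0 := fun h => he₁ ((c₀ ^ p).map_eq_zero_iff.1 h)
    obtain ⟨z, hz⟩ := exists_polB_eq d.ndS hne 1
    refine ⟨polB d.QS e₁ z, fun h0 => ?_, fun x => ?_⟩
    · have := congrArg (d.D z) (h1 u₁ e₁)
      rw [d.D_t, d.D_t, hz, one_smul, h0, zero_smul] at this
      exact hp₁.left_ne_zero ((a₀ ^ p).map_eq_zero_iff.1 this)
    · have := congrArg (d.D z) (h1 x e₁)
      rwa [d.D_t, d.D_t, hz, one_smul] at this
  have hcp : ∀ e, (c₀ ^ p) e = lam⁻¹ • e := fun e => by
    have h2 := h1 u₁ e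
    rw [hlam, map_smul, LinearMap.smul_apply, ← map_smul (d.t u₁)] at h2
    have h3 := d.t_injective hp₁.left_ne_zero h2
    conv_rhs => rw [← h3, smul_smul, inv_mul_cancel₀ hlam0, one_smul]
  obtain ⟨μ, hμ⟩ := (bijective_frobenius F p).2 lam
  rw [frobenius_def] at hμ
  have hμ0 : μ ≠ 0 := fun h => hlam0 (by rw [← hμ, h, zero_pow (Fact.out : p.Prime).ne_zero])
  set a := LinearEquiv.smulOfNeZero F L μ⁻¹ (inv_ne_zero hμ0) * a₀ with ha
  set c := LinearEquiv.smulOfNeZero F S μ hμ0 * c₀ with hc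
  have hax : ∀ x, a x = μ⁻¹ • a₀ x := fun x => rfl
  have hcx : ∀ x, c x = μ • c₀ x := fun x => rfl
  have hcn : ∀ (n : ℕ) x, (c ^ n) x = μ ^ n • (c₀ ^ n) x := by
    intro n
    induction n with
    | zero => intro x; simp
    | succ n ih =>
      intro x
      rw [pow_succ' c, pow_succ' c₀, LinearEquiv.mul_apply, ih, hcx, map_smul, smul_smul,
        LinearEquiv.mul_apply, pow_succ']
  have han : ∀ (n : ℕ) x, (a ^ n) x = μ⁻¹ ^ n • (a₀ ^ n) x := by
    intro n
    induction n with
    | zero => intro x; simp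
    | succ n ih =>
      intro x
      rw [pow_succ' a, pow_succ' a₀, LinearEquiv.mul_apply, ih, hax, map_smul, smul_smul,
        LinearEquiv.mul_apply, pow_succ']
  have hgac : g.1 = d.tens a c := d.equiv_ext fun x e => by
    rw [hac, d.tens_t, d.tens_t, hax, hcx, map_smul, map_smul, LinearMap.smul_apply, smul_smul,
      mul_inv_cancel₀ hμ0, one_smul]
  -- both factors are isometries
  set k := polB d.QL (a u₁) (a u₁') with hkdef
  have hcs : ∀ e e', k * polB d.QS (c e) (c e') = polB d.QS e e' := fun e e' => by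
    rw [hkdef, isom_factors hgac, hp₁.pair, one_mul]
  have hk0 : k ≠ 0 := fun h => by
    have := hcs e₁ e₂
    rw [h, zero_mul, he₂] at this
    exact zero_ne_one this
  have has : ∀ x y, polB d.QL (a x) (a y) = k * polB d.QL x y := fun x y => by
    have h2 := hcs e₁ e₂
    have h3 := isom_factors hgac x y e₁ e₂
    rw [he₂] at h2 h3
    linear_combination k * h3 - polB d.QL (a x) (a y) * h2
  have hk1 : k = 1 := by
    have hap : ∀ x, (a ^ p) x = x := fun x => by
      rw [han, hlam, smul_smul, ← hμ, ← mul_pow, inv_mul_cancel₀ hμ0, one_pow, one_smul]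
    have key : ∀ n : ℕ, polB d.QL ((a ^ n) u₁) ((a ^ n) u₁') = k ^ n := by
      intro n
      induction n with
      | zero => simpa using hp₁.pair
      | succ n ih =>
        show polB d.QL ((a ^ (n + 1)) u₁) ((a ^ (n + 1)) u₁') = k ^ (n + 1)
        rw [show a ^ (n + 1) = a * a ^ n from pow_succ' a n]
        show polB d.QL (a ((a ^ n) u₁)) (a ((a ^ n) u₁')) = k ^ (n + 1)
        rw [has, ih, pow_succ']
    have h4 := key p
    rw [hap, hap, hp₁.pair] at h4
    exact (frobenius_inj F p) (by rw [frobenius_def, ← h4, map_one])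
  refine ⟨⟨a, fun x => mul_left_cancel₀ d.two (by rw [← polB_self, ← polB_self, has, hk1, one_mul])⟩,
    ⟨c, fun e => mul_left_cancel₀ d.two (by
      rw [← polB_self, ← polB_self]; simpa [hk1] using hcs e e)⟩, ?_, ?_⟩
  · apply Subtype.ext
    rw [Subgroup.coe_mul, hgac]
    show _ = d.tens a 1 * d.tens 1 c
    rw [d.tens_mul, one_mul, mul_one]
  · haveI : Nontrivial S := ⟨⟨e₁, 0, he₁⟩⟩
    haveI : CharP (Module.End F S) p := charP_of_injective_algebraMap (algebraMap F (Module.End F S)).injective p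
    show ((c : S →ₗ[F] S) - 1) ^ p = 0
    rw [sub_pow_char_of_commute p (Commute.one_right _), one_pow, sub_eq_zero]
    refine LinearMap.ext fun e => ?_
    have hpowc : ∀ n : ℕ, ∀ e, ((c : S →ₗ[F] S) ^ n) e = (c ^ n) e := by
      intro n
      induction n with
      | zero => intro e; rfl
      | succ n ih => intro e; rw [pow_succ', pow_succ', Module.End.mul_apply, ih]; rfl
    rw [hpowc, hcn, hcp, smul_smul, hμ, mul_inv_cancel₀ hlam0, one_smul]
    rfl

/-- No unipotent isometry has rank one. -/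
theorem rank_ne_one {W : Type*} [AddCommGroup W] [Module F W] [FiniteDimensional F W] {Q : QuadraticForm F W}
    (hQ : (polB Q).Nondegenerate) (h2 : (2 : F) ≠ 0) (c : orthGroup Q) (p : ℕ)
    (hnil : ((c.1 : W →ₗ[F] W) - 1) ^ p = 0) :
    Module.finrank F (LinearMap.range ((c.1 : W →ₗ[F] W) - 1)) ≠ 1 := by
  intro h1
  set N := (c.1 : W →ₗ[F] W) - 1 with hN
  obtain ⟨⟨n, hn⟩, hn0, hspan⟩ := finrank_eq_one_iff'.1 h1
  have hN' : ∀ x, ∃ r : F, N x = r • n := fun x => by
    obtain ⟨r, hr⟩ := hspan ⟨N x, LinearMap.mem_range_self N x⟩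
    exact ⟨r, (congrArg Subtype.val hr).symm⟩
  choose φ hφ using hN'
  have hn0' : n ≠ 0 := fun h => hn0 (Subtype.ext h)
  have hc : ∀ x, c.1 x = x + φ x • n := fun x => by rw [← hφ]; simp [hN]
  have hzero : φ n = 0 := by
    by_contra hne
    have h2' : ∀ k : ℕ, (N ^ k) n = φ n ^ k • n := by
      intro k
      induction k with
      | zero => simp
      | succ k ih => rw [pow_succ', Module.End.mul_apply, ih, map_smul, hφ, smul_smul, pow_succ]
    have := h2' p
    rw [hnil, LinearMap.zero_apply, eq_comm, smul_eq_zero] at this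
    exact this.elim (pow_ne_zero p hne) hn0'
  have key : ∀ x y, φ y * polB Q x n + φ x * polB Q n y + φ x * φ y * polB Q n n = 0 := fun x y => by
    have h := orth_polB_map c x y
    rw [hc, hc] at h
    simp only [map_add, map_smul, LinearMap.add_apply, LinearMap.smul_apply, smul_eq_mul] at h
    linear_combination h
  have hfix : ∀ y, φ y * polB Q n n = 0 := fun y => by
    have := key n y; rw [hzero] at this; linear_combination this
  have hB : ∀ x, φ x * polB Q x n = 0 := fun x => by
    have h3 : (2 : F) * (φ x * polB Q x n) = 0 := by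
      linear_combination key x x + φ x * polB_comm (Q := Q) x n - φ x * hfix x
    exact (mul_eq_zero.1 h3).resolve_left h2
  obtain ⟨x₀, hx₀⟩ : ∃ x₀, φ x₀ ≠ 0 := by
    obtain ⟨x, hx⟩ := hn
    refine ⟨x, fun h0 => hn0' ?_⟩
    rw [← hx, hφ, h0, zero_smul]
  have hx₀n := (mul_eq_zero.1 (hB x₀)).resolve_left hx₀
  refine hn0' (hQ.1 n fun y => ?_)
  have h := key x₀ y
  rw [hx₀n] at h
  exact (mul_eq_zero.1 (show φ x₀ * polB Q n y = 0 by
    linear_combination h - φ x₀ * hfix y)).resolve_left hx₀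

/-- Unipotent products of small rank come from the first factor. -/
theorem small_rank (p : ℕ) [Fact p.Prime] [CharP F p] {g : orthGroup d.Q} (hg : d.IsT g) (hp : g ^ p = 1)
    (hr : Module.finrank F (LinearMap.range ((g.1 : V →ₗ[F] V) - 1)) ≤ 2 * Module.finrank F S) :
    ∃ a : orthGroup d.QL, g = d.liftL a ∧
      Module.finrank F (LinearMap.range ((a.1 : L →ₗ[F] L) - 1)) * Module.finrank F S ≤
        Module.finrank F (LinearMap.range ((g.1 : V →ₗ[F] V) - 1)) := by
  obtain ⟨a, c, rfl, hnil⟩ := unipotent_factor p hg hp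
  set M := (a.1 : L →ₗ[F] L) - 1 with hM
  set N := (c.1 : S →ₗ[F] S) - 1 with hN
  set Y := ((d.liftL a * d.liftS c).1 : V →ₗ[F] V) - 1 with hY
  have hYt : ∀ x e, Y (d.t x e) = d.t (M x) e + d.t (a.1 x) (N e) := fun x e => by
    show (d.liftL a * d.liftS c).1 (d.t x e) - d.t x e = _
    rw [orth_mul_apply, d.liftS_t, d.liftL_t]
    simp [hM, hN]
  -- the complement of the kernel
  obtain ⟨L', hL'⟩ := (LinearMap.ker M).exists_isCompl
  have hL'd : Module.finrank F L' = Module.finrank F (LinearMap.range M) := by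
    have h1 := Submodule.finrank_add_eq_of_isCompl hL'
    have h2 := M.finrank_range_add_finrank_ker
    omega
  have hMinj : Function.Injective (M ∘ₗ L'.subtype) := by
    refine (injective_iff_map_eq_zero _).2 fun x hx => ?_
    have : (x : L) ∈ LinearMap.ker M ⊓ L' := ⟨hx, x.2⟩
    rw [hL'.inf_eq_bot, Submodule.mem_bot] at this
    exact Subtype.ext this
  let A : L' ⊗[F] S →ₗ[F] L ⊗[F] S := TensorProduct.map (M ∘ₗ L'.subtype) LinearMap.id
  let B : L' ⊗[F] S →ₗ[F] L ⊗[F] S := TensorProduct.map (a.1.toLinearMap ∘ₗ L'.subtype) N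
  let N' : Module.End F (L' ⊗[F] S) := TensorProduct.map LinearMap.id N
  let N'' : Module.End F (L ⊗[F] S) := TensorProduct.map LinearMap.id N
  have hAinj : Function.Injective A := by
    obtain ⟨ψ, hψ⟩ := LinearMap.exists_leftInverse_of_injective (M ∘ₗ L'.subtype) (LinearMap.ker_eq_bot.2 hMinj)
    refine Function.LeftInverse.injective (g := TensorProduct.map ψ LinearMap.id) fun v => ?_
    show ((TensorProduct.map ψ LinearMap.id) ∘ₗ A) v = v
    rw [← TensorProduct.map_comp, hψ, LinearMap.id_comp, TensorProduct.map_id, LinearMap.id_apply]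
  have hABinj : Function.Injective (A + B) := by
    have hcommN : (A + B) ∘ₗ N' = N'' ∘ₗ (A + B) := TensorProduct.ext' fun x e => by
      simp [A, B, N', N'']
    have hBN : B = TensorProduct.map (a.1.toLinearMap ∘ₗ L'.subtype) LinearMap.id ∘ₗ N' :=
      TensorProduct.ext' fun x e => by simp [B, N']
    refine (injective_iff_map_eq_zero _).2 fun v hv => ?_
    have hpow : ∀ i : ℕ, (A + B) ((N' ^ i) v) = 0 := by
      intro i
      induction i with
      | zero => exact hv
      | succ i ih =>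
        rw [pow_succ', Module.End.mul_apply, ← LinearMap.comp_apply (A + B), hcommN, LinearMap.comp_apply,
          ih, map_zero]
    have hdown : ∀ i : ℕ, (N' ^ i) v = 0 → v = 0 := by
      intro i
      induction i with
      | zero => exact id
      | succ i ih =>
        intro h
        refine ih (hAinj ?_)
        have h1 := hpow i
        rw [LinearMap.add_apply, hBN, LinearMap.comp_apply, ← Module.End.mul_apply N', ← pow_succ', h,
          map_zero, add_zero] at h1
        rw [h1, map_zero]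
    refine hdown p ?_
    have : N' ^ p = TensorProduct.map LinearMap.id (N ^ p) := by
      have e : ∀ i : ℕ, N' ^ i = TensorProduct.map LinearMap.id (N ^ i) := by
        intro i
        induction i with
        | zero => simp [Module.End.one_eq_id]
        | succ i ih =>
          rw [pow_succ, ih, pow_succ, Module.End.mul_eq_comp, Module.End.mul_eq_comp, ← TensorProduct.map_comp,
            LinearMap.comp_id]
      exact e p
    rw [this, hnil, TensorProduct.map_zero_right, LinearMap.zero_apply]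
  have hrank1 : Module.finrank F (LinearMap.range M) * Module.finrank F S ≤
      Module.finrank F (LinearMap.range Y) := by
    rw [← hL'd, ← Module.finrank_tensorProduct (R := F) (S := F) (M := L') (M' := S),
      ← LinearMap.finrank_range_of_inj (f := d.Φ.toLinearMap ∘ₗ (A + B)) (d.Φ.injective.comp hABinj)]
    refine Submodule.finrank_mono ?_
    rintro _ ⟨v, rfl⟩
    induction v using TensorProduct.induction_on with
    | zero => rw [map_zero]; exact zero_mem _
    | tmul x e => exact ⟨d.t (x : L) e, by rw [hYt]; simp [A, B, d.t_apply]⟩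
    | add v w hv hw => rw [map_add]; exact add_mem hv hw
  -- the kernel times the image
  let I : LinearMap.ker M ⊗[F] LinearMap.range N →ₗ[F] V :=
    d.Φ.toLinearMap ∘ₗ TensorProduct.map (LinearMap.ker M).subtype (LinearMap.range N).subtype
  have hIinj : Function.Injective I := by
    obtain ⟨ψ₁, hψ₁⟩ := LinearMap.exists_leftInverse_of_injective (LinearMap.ker M).subtype (Submodule.ker_subtype _)
    obtain ⟨ψ₂, hψ₂⟩ := LinearMap.exists_leftInverse_of_injective (LinearMap.range N).subtype
      (Submodule.ker_subtype _)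
    refine d.Φ.injective.comp (Function.LeftInverse.injective (g := TensorProduct.map ψ₁ ψ₂) fun v => ?_)
    rw [← LinearMap.comp_apply, ← TensorProduct.map_comp, hψ₁, hψ₂, TensorProduct.map_id, LinearMap.id_apply]
  have hIle : LinearMap.range I ≤ LinearMap.range Y := by
    rintro _ ⟨v, rfl⟩
    induction v using TensorProduct.induction_on with
    | zero => rw [map_zero]; exact zero_mem _
    | tmul x e =>
      obtain ⟨⟨x, hx⟩, ⟨e, z, rfl⟩⟩ := x, e
      have hax : a.1 x = x := by
        have := LinearMap.mem_ker.1 hx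
        simpa [hM, sub_eq_zero] using this
      exact ⟨d.t x z, by rw [hYt, LinearMap.mem_ker.1 hx, hax]; simp [I, d.t_apply]⟩
    | add v w hv hw => rw [map_add]; exact add_mem hv hw
  have hrank2 : Module.finrank F (LinearMap.ker M) * Module.finrank F (LinearMap.range N) ≤
      Module.finrank F (LinearMap.range Y) := by
    rw [← Module.finrank_tensorProduct (R := F) (S := F), ← LinearMap.finrank_range_of_inj hIinj]
    exact Submodule.finrank_mono hIle
  have hN0 : N = 0 := by
    by_contra hne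
    have h1 := rank_ne_one d.ndS d.two c p hnil
    rw [← hN] at h1
    have h0 : Module.finrank F (LinearMap.range N) ≠ 0 := fun h =>
      hne (LinearMap.range_eq_bot.1 (Submodule.finrank_eq_zero.1 h))
    have hM2 : Module.finrank F (LinearMap.range M) ≤ 2 :=
      Nat.le_of_mul_le_mul_right (hrank1.trans hr) (by have := d.three; omega)
    have h2 := M.finrank_range_add_finrank_ker
    have h3 := d.gap
    have h4 : Module.finrank F S * 2 ≤ Module.finrank F (LinearMap.ker M) * Module.finrank F (LinearMap.range N) :=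
      Nat.mul_le_mul (by omega) (by omega)
    have h5 : LinearMap.range I = LinearMap.range Y := Submodule.eq_of_le_of_finrank_le hIle (by
      rw [LinearMap.finrank_range_of_inj hIinj, Module.finrank_tensorProduct]; omega)
    have hr2 : Module.finrank F (LinearMap.ker M) * 2 ≤ 2 * Module.finrank F S :=
      (Nat.mul_le_mul le_rfl (by omega)).trans (hrank2.trans hr)
    have hNr : LinearMap.range N ≠ ⊤ := fun htop => by
      have hs := congrArg (fun U : Submodule F S => Module.finrank F U) htop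
      rw [finrank_top] at hs
      have h6 : Module.finrank F (LinearMap.ker M) * Module.finrank F S ≤ 2 * Module.finrank F S := by
        rw [← hs]; exact hrank2.trans (hr.trans_eq (by rw [hs]))
      have := Nat.le_of_mul_le_mul_right h6 (by have := d.three; omega)
      have := d.five
      omega
    obtain ⟨e₁, he₁, he₁0⟩ : ∃ e₁ ∈ (polB d.QS).orthogonal (LinearMap.range N), e₁ ≠ 0 := by
      refine Submodule.exists_mem_ne_zero_of_ne_bot fun hbot => hNr (Submodule.eq_top_of_finrank_eq ?_)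
      have := finrank_orth_add d.ndS (LinearMap.range N)
      rw [hbot, finrank_bot] at this
      omega
    have hD : ∀ v ∈ LinearMap.range Y, d.D e₁ v = 0 := by
      rw [← h5]
      rintro _ ⟨v, rfl⟩
      induction v using TensorProduct.induction_on with
      | zero => simp
      | tmul x e =>
        show d.D e₁ (d.t (x : L) (e : S)) = 0
        rw [d.D_t, he₁ (e : S) e.2, zero_smul]
      | add v w hv hw => rw [map_add, map_add, hv, hw, add_zero]
    obtain ⟨e, he⟩ := exists_polB_eq d.ndS he₁0 1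
    have hM0 : M = 0 := LinearMap.ext fun x => by
      have := hD _ ⟨d.t x e, rfl⟩
      rwa [hYt, map_add, d.D_t, d.D_t, polB_comm e e₁, he, he₁ (N e) (LinearMap.mem_range_self N e), one_smul,
        zero_smul, add_zero] at this
    have h7 : Module.finrank F (LinearMap.range M) = 0 := by rw [hM0, LinearMap.range_zero, finrank_bot]
    omega
  refine ⟨a, ?_, hrank1⟩
  have hc1 : c = 1 := orth_ext fun e => by
    have := LinearMap.congr_fun hN0 e
    simpa [hN, sub_eq_zero, orth_one_apply] using this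
  rw [hc1, map_one, mul_one]

theorem sg_pow {u w : L} (hu : d.QL u = 0) (h : polB d.QL u w = 0) (n : ℕ) :
    d.sg u w ^ n = d.sg u ((n : F) • w) := by
  induction n with
  | zero => rw [pow_zero, Nat.cast_zero, zero_smul, sg, eichler_zero hu, map_one]
  | succ n ih =>
    rw [pow_succ, ih, d.sg_mul hu (by rw [map_smul, h, smul_zero]) h, Nat.cast_succ, add_smul, one_smul]

theorem sg_sub_mem {u w : L} (hu : d.QL u = 0) (h : polB d.QL u w = 0) (v : V) :
    (d.sg u w).1 v - v ∈ d.W u ⊔ d.W w := by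
  rw [d.sg_apply hu h, show v + d.t w (d.C u v) - d.t u (d.C w v) - d.QL w • d.t u (d.C u v) - v =
    (-(d.t u (d.C w v)) - d.QL w • d.t u (d.C u v)) + d.t w (d.C u v) by abel]
  exact Submodule.add_mem_sup (sub_mem (neg_mem (d.t_mem_W _ _)) (Submodule.smul_mem _ _ (d.t_mem_W _ _)))
    (d.t_mem_W _ _)

theorem exists_aniso_S : ∃ e : S, d.QS e ≠ 0 := by
  by_contra hcon
  push Not at hcon
  obtain ⟨e₁, e₂, -, h12⟩ := exists_bS_one (d := d)
  have := hcon (e₁ + e₂)
  rw [qmap_add, hcon e₁, hcon e₂, h12, zero_add, zero_add] at this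
  exact one_ne_zero this

/-- An element conjugating a Siegel element to a product is a product. -/
theorem root_conj (hH : d.Over H) (hS : d.Small H) {h : orthGroup d.Q} (hh : h ∈ H) {u w : L}
    (hu : d.QL u = 0) (huw : polB d.QL u w = 0) (hw : w ∉ F ∙ u) (hu0 : u ≠ 0)
    (hy : d.IsT (h * d.sg u w * h⁻¹)) : d.IsT h := by
  classical
  haveI := Fintype.ofFinite F
  obtain ⟨p, hp⟩ := CharP.exists F
  haveI := hp
  haveI : Fact p.Prime := ⟨CharP.char_is_prime F p⟩
  -- the conjugate comes from the first factor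
  have key : ∀ w, polB d.QL u w = 0 → d.IsT (h * d.sg u w * h⁻¹) →
      ∃ a : orthGroup d.QL, h * d.sg u w * h⁻¹ = d.liftL a := by
    intro w huw hy
    have hpow : (h * d.sg u w * h⁻¹) ^ p = 1 := by
      rw [conj_pow, sg_pow hu huw, CharP.cast_eq_zero, zero_smul, sg, eichler_zero hu, map_one, mul_one,
        mul_inv_cancel]
    have hr : Module.finrank F (LinearMap.range (((h * d.sg u w * h⁻¹).1 : V →ₗ[F] V) - 1)) ≤
        2 * Module.finrank F S := by
      refine (Submodule.finrank_mono (t := (d.W u ⊔ d.W w).map h.1.toLinearMap) ?_).trans ?_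
      · rintro _ ⟨v, rfl⟩
        refine ⟨(d.sg u w).1 ((h⁻¹).1 v) - (h⁻¹).1 v, sg_sub_mem hu huw _, ?_⟩
        show h.1 ((d.sg u w).1 ((h⁻¹).1 v) - (h⁻¹).1 v) = (h * d.sg u w * h⁻¹).1 v - v
        rw [map_sub, orth_apply_inv_self, orth_mul_apply, orth_mul_apply]
      · refine (Submodule.finrank_map_le _ _).trans ((Submodule.finrank_add_le_finrank_add_finrank _ _).trans ?_)
        have h1 : ∀ z, Module.finrank F (d.W z) ≤ Module.finrank F S := fun z => LinearMap.finrank_range_le _
        have := h1 u; have := h1 w; omega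
    obtain ⟨a, ha, -⟩ := small_rank p hy hpow hr
    exact ⟨a, ha⟩
  obtain ⟨e₀, he₀⟩ := exists_aniso_S (d := d)
  obtain ⟨u', hpu⟩ := exists_hypPair d.ndL hu hu0
  have haniso : ∀ w, polB d.QL u w = 0 → d.QL w ≠ 0 → d.IsT (h * d.sg u w * h⁻¹) → d.IsT h := by
    intro w huw hQ hy
    obtain ⟨a, ha⟩ := key w huw hy
    set M := (a.1 : L →ₗ[F] L) - 1
    have hY : ∀ z, h.1 ((d.sg u w).1 z) - h.1 z = (d.liftL a).1 (h.1 z) - h.1 z := fun z => by
      rw [← ha, orth_mul_apply, orth_mul_apply, orth_inv_apply_self]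
    let Y₀ : V →ₗ[F] V := ((d.sg u w).1 : V →ₗ[F] V) - 1
    let Y : V →ₗ[F] V := ((d.liftL a).1 : V →ₗ[F] V) - 1
    have hYh : ∀ z, Y (h.1 z) = h.1 (Y₀ z) := fun z => by
      show (d.liftL a).1 (h.1 z) - h.1 z = h.1 ((d.sg u w).1 z - z)
      rw [map_sub, hY]
    have hYt : ∀ x e, Y (Y (d.t x e)) = d.t (M (M x)) e := fun x e => by
      have h1 : ∀ x, Y (d.t x e) = d.t (M x) e := fun x => by
        show (d.liftL a).1 (d.t x e) - d.t x e = _
        rw [d.liftL_t]; simp [M]
      rw [h1, h1]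
    have hY₀ : ∀ v, Y₀ (Y₀ v) = (-(2 * d.QL w)) • d.t u (d.C u v) := fun v => by
      have h1 : ∀ e, Y₀ (d.t u e) = 0 := fun e => by
        show (d.sg u w).1 (d.t u e) - d.t u e = 0
        rw [(d.sg_qel u w hu huw).fixW, sub_self]
      have h2 : ∀ e, Y₀ (d.t w e) = (-(2 * d.QL w)) • d.t u e := fun e => by
        show (d.sg u w).1 (d.t w e) - d.t w e = _
        rw [d.sg_t hu huw, polB_comm w u, huw, polB_self]
        simp
      show Y₀ ((d.sg u w).1 v - v) = _
      rw [d.sg_apply hu huw]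
      simp only [map_add, map_sub, map_smul, h1, h2, smul_zero, sub_zero, zero_sub]
      abel
    have hc : -(2 * d.QL w) ≠ 0 := neg_ne_zero.2 (mul_ne_zero d.two hQ)
    obtain ⟨x, hx⟩ : ∃ x, M (M x) ≠ 0 := by
      by_contra hcon
      push Not at hcon
      have hzero : Y ∘ₗ Y = 0 := d.hom_ext fun x e => by
        rw [LinearMap.comp_apply, hYt, hcon, map_zero]; rfl
      have h1 := LinearMap.congr_fun hzero (h.1 (d.t u' e₀))
      rw [LinearMap.comp_apply, hYh, hYh, hY₀, LinearMap.zero_apply, LinearEquiv.map_eq_zero_iff,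
        smul_eq_zero, d.C_t, hpu.symm.pair, one_smul] at h1
      exact h1.elim hc (d.t_ne_zero hu0 fun he => he₀ (by rw [he]; exact QuadraticMap.map_zero _))
    set P := M (M x) with hP
    have hle : d.W P ≤ (d.W u).map h.1.toLinearMap := by
      rintro _ ⟨e, rfl⟩
      obtain ⟨z, hz⟩ : ∃ z, h.1 z = d.t x e := ⟨_, orth_apply_inv_self h _⟩
      refine ⟨Y₀ (Y₀ z), by rw [hY₀]; exact Submodule.smul_mem _ _ (d.t_mem_W _ _), ?_⟩
      show h.1 (Y₀ (Y₀ z)) = _
      rw [← hYh, ← hYh, hz, hYt]
    have heq := Submodule.eq_of_le_of_finrank_le hle (by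
      rw [d.finrank_W hx]
      exact (Submodule.finrank_map_le _ _).trans (le_of_eq (d.finrank_W hu0)))
    have hQP : d.QL P = 0 := by
      obtain ⟨z, hz, hze⟩ := hle (d.t_mem_W P e₀)
      obtain ⟨e', rfl⟩ := hz
      have h1 : d.Q (h.1 (d.t u e')) = d.Q (d.t P e₀) := congrArg d.Q hze
      rw [orth_qmap, d.Q_t, d.Q_t, hu, zero_mul, mul_zero, eq_comm, mul_eq_zero, mul_eq_zero] at h1
      exact (h1.resolve_left d.two).resolve_right he₀
    obtain ⟨g, hg, r, hr, hgP⟩ := move d.ndL d.two d.threeL hQP hx hu hu0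
    have hstab := stab hH hS hu hu0 (h := d.liftL g * h) (mul_mem (hH.liftL_mem hg) hh) fun e => by
      obtain ⟨e', he'⟩ : h.1 (d.t u e) ∈ d.W P := by
        rw [heq]; exact Submodule.mem_map_of_mem (d.t_mem_W u e)
      rw [orth_mul_apply, ← he', d.liftL_t, hgP, ← d.W_smul hr]
      exact d.t_mem_W _ _
    exact (d.IsT_mul_left_iff (d.liftL_isT g)).1 hstab
  rcases eq_or_ne (d.QL w) 0 with hQ | hQ
  swap
  · exact haniso w huw hQ hy
  obtain ⟨a, ha⟩ := key w huw hy
  obtain ⟨w₀, hw₀, hQ₀⟩ : ∃ w₀ ∈ (polB d.QL).orthogonal (Submodule.span F {u, w}), d.QL w₀ ≠ 0 := by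
    by_contra hcon
    push Not at hcon
    have h1 := two_mul_finrank_singular_le d.ndL _ hcon
    have h2 := finrank_orth_pair d.ndL u w
    have := d.five; omega
  obtain ⟨huw₀, hww₀⟩ := mem_orth_pair.1 hw₀
  obtain ⟨x, hx⟩ : ∃ x, a.1 x - x ≠ 0 := by
    by_contra hcon
    push Not at hcon
    have h1 : d.liftL a = 1 := d.orth_ext' fun x e => by
      rw [d.liftL_t, sub_eq_zero.1 (hcon x)]; rfl
    rw [h1, conj_eq_one_iff] at ha
    have h2 := congrArg (fun g : orthGroup d.Q => g.1 (d.t u' e₀)) ha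
    simp only [orth_one_apply, d.sg_t hu huw, hpu.symm.pair, one_smul, hQ, zero_mul, zero_smul, map_zero,
      sub_zero] at h2
    refine hw (Submodule.mem_span_singleton.2 ⟨polB d.QL u' w, ?_⟩)
    refine d.t_left_ne (fun he => he₀ (by rw [he]; exact QuadraticMap.map_zero _)) (x := e₀) ?_
    rw [map_smul, LinearMap.smul_apply]
    have h3 : d.t w e₀ - d.t u (polB d.QL u' w • e₀) = 0 := by linear_combination (norm := abel) h2
    rw [map_smul] at h3
    exact (sub_eq_zero.1 h3).symm
  set P := a.1 x - x with hP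
  have hPmem : ∀ e, ∃ z ∈ d.W u ⊔ d.W w, h.1 z = d.t P e := fun e => by
    obtain ⟨z, hz⟩ : ∃ z, h.1 z = d.t x e := ⟨_, orth_apply_inv_self h _⟩
    refine ⟨(d.sg u w).1 z - z, sg_sub_mem hu huw z, ?_⟩
    rw [map_sub, show h.1 ((d.sg u w).1 z) = (d.liftL a).1 (h.1 z) by
      rw [← ha, orth_mul_apply, orth_mul_apply, orth_inv_apply_self], hz, d.liftL_t, hP, map_sub,
      LinearMap.sub_apply]
  have hQP : d.QL P = 0 := by
    obtain ⟨z, hz, hze⟩ := hPmem e₀
    obtain ⟨_, ⟨e₁, rfl⟩, _, ⟨e₂, rfl⟩, rfl⟩ := Submodule.mem_sup.1 hz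
    have h1 := congrArg d.Q hze
    rw [orth_qmap, qmap_add, d.Q_t, d.Q_t, d.Q_t, d.f_t, hu, hQ, huw, zero_mul, zero_mul, zero_mul, mul_zero,
      add_zero, add_zero, eq_comm, mul_eq_zero, mul_eq_zero] at h1
    exact (h1.resolve_left d.two).resolve_right he₀
  have hfix : ∀ e, (h * d.sg u w₀ * h⁻¹).1 (d.t P e) ∈ d.W P := fun e => by
    obtain ⟨z, hz, hze⟩ := hPmem e
    obtain ⟨_, ⟨e₁, rfl⟩, _, ⟨e₂, rfl⟩, rfl⟩ := Submodule.mem_sup.1 hz
    rw [← hze, orth_mul_apply, orth_mul_apply, orth_inv_apply_self, map_add ((d.sg u w₀).1),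
      (d.sg_qel u w₀ hu huw₀).fixW, d.sg_t hu huw₀ w, polB_comm w u, huw, hww₀]
    simp only [zero_smul, mul_zero, map_zero, sub_zero, add_zero]
    rw [hze]
    exact d.t_mem_W P e
  exact haniso w₀ huw₀ hQ₀
    (stab hH hS hQP hx (mul_mem (mul_mem hh (hH.sg_mem hu huw₀)) (inv_mem hh)) hfix)

end OS

end H98.TO
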