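import Cfsg.Agent.H43.Eichler

/-!
Facts on a single quadratic space of dimension at least three over a finite field of odd order.
-/

set_option autoImplicit false
set_option linter.unusedSectionVars false
set_option linter.unusedSimpArgs false

namespace H98.TO

open H43
open scoped commutatorElement

variable {F : Type*} [Field F] [Finite F] {W : Type*} [AddCommGroup W] [Module F W] [FiniteDimensional F W]
  {Q : QuadraticForm F W}

theorem polB_self_zero {u : W} (hu : Q u = 0) : polB Q u u = 0 := by rw [polB_self, hu, mul_zero]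

/-- The orthogonal of a hyperbolic pair and one anisotropic vector carries a non-degenerate form. -/
theorem exists_orth_same (hQ : (polB Q).Nondegenerate) (h2 : (2 : F) ≠ 0) (hd : 5 ≤ Module.finrank F W)
    {c c' a : W} (h : HypPair Q c c') (ha : Q a ≠ 0) (hca : polB Q c a = 0) (hca' : polB Q c' a = 0) :
    ∃ a', polB Q c a' = 0 ∧ polB Q c' a' = 0 ∧ polB Q a a' = 0 ∧ Q a' = Q a := by
  classical
  set S := Submodule.span F ({c, c', a} : Set W) with hS
  set U := (polB Q).orthogonal S with hU
  have hnd : (polB (Q.restrict U)).Nondegenerate := by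
    apply H43.restrict_nondeg
    rw [hU, LinearMap.BilinForm.orthogonal_orthogonal hQ (polB_isRefl Q), eq_bot_iff]
    rintro x ⟨hx, hx'⟩
    obtain ⟨α, z, hz, rfl⟩ := Submodule.mem_span_insert.1 hx'
    obtain ⟨β, γ, rfl⟩ := Submodule.mem_span_pair.1 hz
    rw [SetLike.mem_coe, hS, mem_orth_span] at hx
    have e1 := hx c (by simp)
    have e2 := hx c' (by simp)
    have e3 := hx a (by simp)
    simp only [map_add, map_smul, smul_eq_mul, polB_self, h.left, h.right, h.pair, h.symm.pair, hca, hca',
      polB_comm a c, polB_comm a c', mul_zero, mul_one, zero_add, add_zero] at e1 e2 e3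
    simp only [mul_eq_zero, h2, ha, or_false] at e3
    simp [e1, e2, e3]
  have hdim : 2 ≤ Module.finrank F U := by
    have h1 := finrank_orth_add hQ S
    have h3 : Module.finrank F S ≤ 3 := by
      have := finrank_span_finset_le_card (R := F) ({c, c', a} : Finset W)
      rw [Set.finrank] at this
      rw [hS]
      refine le_trans ?_ (this.trans Finset.card_le_three)
      exact le_of_eq (by congr 2 <;> simp)
    rw [hU]; omega
  obtain ⟨⟨x, hx⟩, hxq⟩ := exists_qmap_eq hnd hdim (Q a) ha
  rw [hU, hS, mem_orth_span] at hx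
  exact ⟨x, hx c (by simp), hx c' (by simp), hx a (by simp), hxq⟩

/-- The projection onto the orthogonal of a hyperbolic pair. -/
def pairProj (Q : QuadraticForm F W) (c c' : W) : W →ₗ[F] W :=
  LinearMap.id - ((polB Q).flip c').smulRight c - ((polB Q).flip c).smulRight c'

theorem pairProj_apply (c c' x : W) : pairProj Q c c' x = x - polB Q x c' • c - polB Q x c • c' := by
  simp [pairProj]

theorem pairProj_left {c c' : W} (h : HypPair Q c c') (x : W) : polB Q c (pairProj Q c c' x) = 0 := by
  simp [pairProj_apply, polB_self, h.left, h.pair, polB_comm c x]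

theorem pairProj_right {c c' : W} (h : HypPair Q c c') (x : W) : polB Q c' (pairProj Q c c' x) = 0 := by
  simp [pairProj_apply, polB_self, h.right, h.symm.pair, polB_comm c' x]

theorem pairProj_id {c c' x : W} (h1 : polB Q c x = 0) (h2 : polB Q c' x = 0) :
    pairProj Q c c' x = x := by
  rw [pairProj_apply, polB_comm x c', polB_comm x c, h1, h2]
  simp

theorem decomp_pair (c c' x : W) :
    x = polB Q x c' • c + polB Q x c • c' + pairProj Q c c' x := by
  rw [pairProj_apply]; abel

/-- An anisotropic vector orthogonal to a hyperbolic pair. -/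
theorem exists_aniso_orth_pair (hQ : (polB Q).Nondegenerate) (h3 : 3 ≤ Module.finrank F W) {c c' : W}
    (h : HypPair Q c c') : ∃ a, polB Q c a = 0 ∧ polB Q c' a = 0 ∧ Q a ≠ 0 := by
  set U := (polB Q).orthogonal (Submodule.span F {c, c'}) with hU
  have hd : 1 ≤ Module.finrank F U := by rw [hU]; have := finrank_orth_pair hQ c c'; omega
  by_contra hcon
  push Not at hcon
  have hnd := h.restrict_nondeg hQ
  obtain ⟨x, hx⟩ := Module.finrank_pos_iff_exists_ne_zero.1 (show 0 < Module.finrank F U by omega)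
  refine hx (hnd.1 x fun y => ?_)
  obtain ⟨x, hxU⟩ := x
  obtain ⟨y, hyU⟩ := y
  show polB Q x y = 0
  obtain ⟨x1, x2⟩ := mem_orth_pair.1 hxU
  obtain ⟨y1, y2⟩ := mem_orth_pair.1 hyU
  have h4 := hcon (x + y) (by rw [map_add, x1, y1, add_zero]) (by rw [map_add, x2, y2, add_zero])
  rw [qmap_add, hcon x x1 x2, hcon y y1 y2] at h4
  simpa using h4

/-- Singular vectors not orthogonal to a given one span the space. -/
theorem hom_zero_of_nonorth (hQ : (polB Q).Nondegenerate) (h2 : (2 : F) ≠ 0) (h3 : 3 ≤ Module.finrank F W)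
    {M : Type*} [AddCommGroup M] [Module F M] (φ : W →ₗ[F] M) {n : W} (hn : Q n = 0) (hn0 : n ≠ 0)
    (hφ : ∀ z, Q z = 0 → polB Q n z ≠ 0 → φ z = 0) : φ = 0 := by
  obtain ⟨n', hp⟩ := exists_hypPair hQ hn hn0
  have h0 : φ n' = 0 := hφ n' hp.right (by rw [hp.pair]; exact one_ne_zero)
  have key : ∀ a, polB Q n a = 0 → polB Q n' a = 0 → φ a = 0 ∧ Q a • φ n = 0 := by
    intro a ha ha'
    have h1 : ∀ b, polB Q n b = 0 → polB Q n' b = 0 → φ b - Q b • φ n = 0 := fun b hb hb' => by
      have := hφ (n' + b + (-Q b) • n) (by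
        rw [qmap_add_smul, qmap_add, hp.right, hn, hb', map_add, LinearMap.add_apply, hp.symm.pair,
          polB_comm b n, hb]
        ring) (by simp [polB_self, hn, hp.pair, hb])
      rw [map_add, map_add, map_smul, h0, zero_add, neg_smul] at this
      rw [sub_eq_add_neg]; exact this
    have e1 := h1 a ha ha'
    have e2 := h1 (-a) (by rw [map_neg, ha, neg_zero]) (by rw [map_neg, ha', neg_zero])
    rw [map_neg, qmap_neg] at e2
    have e3 : (2 : F) • φ a = 0 := by linear_combination (norm := module) e1 - e2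
    have e4 := (smul_eq_zero.1 e3).resolve_left h2
    refine ⟨e4, ?_⟩
    rw [e4, zero_sub, neg_eq_zero] at e1
    exact e1
  obtain ⟨a, ha, ha', hQa⟩ := exists_aniso_orth_pair hQ h3 hp
  have hn' : φ n = 0 := (smul_eq_zero.1 (key a ha ha').2).resolve_left hQa
  refine LinearMap.ext fun x => ?_
  rw [decomp_pair (Q := Q) n n' x, map_add, map_add, map_smul, map_smul, hn', h0,
    (key _ (pairProj_left hp x) (pairProj_right hp x)).1]
  simp

theorem exists_sing (hQ : (polB Q).Nondegenerate) (h3 : 3 ≤ Module.finrank F W) :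
    ∃ n : W, n ≠ 0 ∧ Q n = 0 := exists_singular Q h3

/-- Singular vectors span the space. -/
theorem hom_zero_of_singular (hQ : (polB Q).Nondegenerate) (h2 : (2 : F) ≠ 0)
    (h3 : 3 ≤ Module.finrank F W) {M : Type*} [AddCommGroup M] [Module F M] (φ : W →ₗ[F] M)
    (hφ : ∀ z, Q z = 0 → φ z = 0) : φ = 0 := by
  obtain ⟨n, hn0, hn⟩ := exists_sing hQ h3
  exact hom_zero_of_nonorth hQ h2 h3 φ hn hn0 fun z hz _ => hφ z hz

theorem exists_sing_nonorth (hQ : (polB Q).Nondegenerate) (h2 : (2 : F) ≠ 0)
    (h3 : 3 ≤ Module.finrank F W) {u : W} (hu : Q u = 0) (hu0 : u ≠ 0) {x : W} (hx : x ≠ 0) :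
    ∃ v, Q v = 0 ∧ polB Q u v ≠ 0 ∧ polB Q x v ≠ 0 := by
  by_contra hcon
  push Not at hcon
  exact hx (hQ.1 x fun y => LinearMap.congr_fun (hom_zero_of_nonorth hQ h2 h3 (polB Q x) hu hu0 hcon) y)

/-- Eichler transformations are commutators in dimension at least three. -/
theorem eichler_mem_comm (hQ : (polB Q).Nondegenerate) (h2 : (2 : F) ≠ 0) (h3 : 3 ≤ Module.finrank F W)
    {n m : W} (hn : Q n = 0) (hnm : polB Q n m = 0) : eichler Q n m ∈ commutator (orthGroup Q) := by
  have key : ∀ a, polB Q n a = 0 → Q a ≠ 0 → eichler Q n a ∈ commutator (orthGroup Q) := by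
    intro a ha hQa
    set k : F := -(2 : F)⁻¹
    have hk : polB Q n (k • a) = 0 := by rw [map_smul, ha, smul_zero]
    have e : ⁅refl Q a, eichler Q n (k • a)⁆ = eichler Q n a := by
      rw [commutatorElement_def, eichler_conj _ hn hk, eichler_inv hn hk, refl_fix ha, map_smul,
        refl_self hQa, eichler_mul hn (by simp [ha]) (by simp [ha])]
      congr 1
      show k • -a + -(k • a) = a
      rw [show k = -(2 : F)⁻¹ from rfl]
      have : (2 : F)⁻¹ + (2 : F)⁻¹ = 1 := by field_simp; norm_num
      linear_combination (norm := module) this • a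
    rw [← e, commutator_def]
    exact Subgroup.commutator_mem_commutator trivial trivial
  rcases eq_or_ne (Q m) 0 with hm | hm
  swap
  · exact key m hnm hm
  rcases eq_or_ne n 0 with rfl | hn0
  · rw [show eichler Q (0 : W) m = 1 from orth_ext fun x => by
      simp [eichler_apply hn hnm, orth_one_apply]]
    exact one_mem _
  obtain ⟨n', hp⟩ := exists_hypPair hQ hn hn0
  obtain ⟨a, ha, -, hQa⟩ := exists_aniso_orth_pair hQ h3 hp
  obtain ⟨r, hr, hr0⟩ : ∃ r : F, Q (m - r • a) ≠ 0 ∧ r ≠ 0 := by
    by_contra hcon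
    push Not at hcon
    have e : ∀ r : F, Q (m - r • a) = r * r * Q a - r * polB Q m a := fun r => by
      rw [qmap_sub, hm, qmap_smul, map_smul, smul_eq_mul]; ring
    have e1 : Q (m - (1 : F) • a) = 0 := by
      by_contra h; exact one_ne_zero (hcon 1 h)
    have e2 : Q (m - (-1 : F) • a) = 0 := by
      by_contra h; exact neg_ne_zero.2 one_ne_zero (hcon (-1) h)
    rw [e] at e1 e2
    exact mul_ne_zero h2 hQa (by linear_combination e1 + e2)
  rw [show m = (m - r • a) + r • a by abel, ← eichler_mul hn (by simp [hnm, ha]) (by simp [ha])]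
  refine mul_mem (key _ (by simp [hnm, ha]) hr) (key _ (by simp [ha]) ?_)
  rw [qmap_smul]; exact mul_ne_zero (mul_ne_zero hr0 hr0) hQa

/-- `Ω` moves every singular point to every other one. -/
theorem move (hQ : (polB Q).Nondegenerate) (h2 : (2 : F) ≠ 0) (h3 : 3 ≤ Module.finrank F W)
    {u u' : W} (hu : Q u = 0) (hu0 : u ≠ 0) (hu' : Q u' = 0) (hu'0 : u' ≠ 0) :
    ∃ g ∈ commutator (orthGroup Q), ∃ r : F, r ≠ 0 ∧ g.1 u = r • u' := by
  obtain ⟨v, hv, huv, hu'v⟩ := exists_sing_nonorth hQ h2 h3 hu hu0 hu'0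
  set u₁ := (polB Q u v)⁻¹ • u with h1
  set u₂ := (polB Q u' v)⁻¹ • u' with h2'
  have b1 : polB Q u₁ v = 1 := by simp [h1, inv_mul_cancel₀ huv]
  have b2 : polB Q u₂ v = 1 := by simp [h2', inv_mul_cancel₀ hu'v]
  have q1 : Q u₁ = 0 := by rw [h1, qmap_smul, hu, mul_zero]
  have q2 : Q u₂ = 0 := by rw [h2', qmap_smul, hu', mul_zero]
  have hw : polB Q v (u₂ - u₁) = 0 := by rw [map_sub, polB_comm v u₂, polB_comm v u₁, b1, b2, sub_self]
  refine ⟨eichler Q v (u₂ - u₁), eichler_mem_comm hQ h2 h3 hv hw,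
    polB Q u v * (polB Q u' v)⁻¹, mul_ne_zero huv (inv_ne_zero hu'v), ?_⟩
  have e : (eichler Q v (u₂ - u₁)).1 u₁ = u₂ := by
    rw [eichler_apply hv hw, b1, map_sub, polB_self, q1, qmap_sub, q1, q2, polB_comm u₂ u₁]
    module
  have e' : u = polB Q u v • u₁ := by rw [h1, smul_smul, mul_inv_cancel₀ huv, one_smul]
  conv_lhs => rw [e']
  rw [map_smul, e, h2', smul_smul]

/-- A self-adjoint map which is isotropic at all singular vectors is scalar. -/
theorem selfAdj_scalar (hQ : (polB Q).Nondegenerate) (h2 : (2 : F) ≠ 0) (h3 : 3 ≤ Module.finrank F W)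
    (hq : (∃ t : F, t ≠ 0 ∧ t * t ≠ 1) ∨ 5 ≤ Module.finrank F W) (T : W →ₗ[F] W)
    (hT : ∀ x y, polB Q (T x) y = polB Q x (T y)) (h : ∀ n, Q n = 0 → polB Q (T n) n = 0) :
    ∃ r : F, ∀ x, T x = r • x := by
  obtain ⟨u, hu0, hu⟩ := exists_sing hQ h3
  obtain ⟨u', hp⟩ := exists_hypPair hQ hu hu0
  refine ⟨polB Q (T u) u', fun x => sub_eq_zero.1 ?_⟩
  set r := polB Q (T u) u'
  set T' : W →ₗ[F] W := T - r • LinearMap.id
  show T' x = 0
  have hT' : ∀ x y, polB Q (T' x) y = polB Q x (T' y) := fun x y => by simp [T', hT]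
  have h' : ∀ n, Q n = 0 → polB Q (T' n) n = 0 := fun n hn => by
    simp [T', h n hn, polB_self, hn]
  have huu : polB Q (T' u) u' = 0 := by simp [T', r, hp.pair]
  have main : ∀ c c', HypPair Q c c' → polB Q (T' c) c' = 0 → ∀ a, polB Q c a = 0 → polB Q c' a = 0 →
      polB Q (T' a) a = 0 ∧ polB Q (T' c') a = Q a * polB Q (T' c) a := by
    intro c c' hc hcc a ha ha'
    have e : ∀ t : F, 2 * t * polB Q (T' c') a + t * t * polB Q (T' a) a
        - 2 * (t * t * t) * Q a * polB Q (T' c) a = 0 := by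
      intro t
      have hz := h' (c' + t • a + (-(t * t * Q a)) • c) (by
        rw [qmap_add_smul, qmap_add_smul, hc.right, hc.left, ha', map_add, LinearMap.add_apply, hc.symm.pair,
          map_smul, LinearMap.smul_apply, polB_comm a c, ha, smul_zero]
        ring)
      simp only [map_add, map_smul, LinearMap.add_apply, LinearMap.smul_apply, smul_eq_mul, h' c hc.left,
        h' c' hc.right, hcc, hT' a c', hT' c' c, hT' a c] at hz
      rw [polB_comm c' (T' c), polB_comm a (T' c'), polB_comm a (T' c), hcc] at hz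
      linear_combination hz
    have e1 := e 1
    have e2 := e (-1)
    have e3 : (2 : F) * polB Q (T' a) a = 0 := by linear_combination e1 + e2
    have e4 := (mul_eq_zero.1 e3).resolve_left h2
    refine ⟨e4, sub_eq_zero.1 ((mul_eq_zero.1 ?_).resolve_left h2)⟩
    linear_combination e1 - e4
  have huu' : polB Q (T' u') u = 0 := by rw [hT', polB_comm, huu]
  have hXY : ∀ a, polB Q u a = 0 → polB Q u' a = 0 →
      polB Q (T' u') a = 0 ∧ polB Q (T' u) a = 0 ∧ polB Q (T' a) a = 0 := by
    intro a ha ha'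
    obtain ⟨hφ, hX⟩ := main u u' hp huu a ha ha'
    obtain ⟨-, hY⟩ := main u' u hp.symm huu' a ha' ha
    suffices hY0 : polB Q (T' u) a = 0 from ⟨by rw [hX, hY0, mul_zero], hY0, hφ⟩
    rcases eq_or_ne (Q a) 0 with h0 | h0
    · rw [hY, h0, zero_mul]
    rcases hq with ⟨t, ht, ht1⟩ | h5
    · obtain ⟨-, hXt⟩ := main u u' hp huu (t • a) (by simp [ha]) (by simp [ha'])
      simp only [map_smul, smul_eq_mul, qmap_smul] at hXt
      have e : t * (1 - t * t) * (Q a * polB Q (T' u) a) = 0 := by
        linear_combination hXt - t * hX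
      have h1 : t * (1 - t * t) ≠ 0 := mul_ne_zero ht (sub_ne_zero.2 (Ne.symm ht1))
      exact (mul_eq_zero.1 ((mul_eq_zero.1 e).resolve_left h1)).resolve_left h0
    · obtain ⟨a', hb, hb', haa, hQ'⟩ := exists_orth_same hQ h2 h5 hp h0 ha ha'
      obtain ⟨-, hX'⟩ := main u u' hp huu a' hb hb'
      obtain ⟨-, hp1⟩ := main u u' hp huu (a + a') (by simp [ha, hb]) (by simp [ha', hb'])
      obtain ⟨-, hm1⟩ := main u u' hp huu (a - a') (by simp [ha, hb]) (by simp [ha', hb'])
      simp only [map_add, map_sub, qmap_add, qmap_sub, haa, hQ', hX, hX'] at hp1 hm1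
      have e : (2 * Q a) * polB Q (T' u) a = 0 := by linear_combination -hp1 - hm1
      exact (mul_eq_zero.1 e).resolve_left (mul_ne_zero h2 h0)
  refine hQ.1 _ fun y => ?_
  have haa' : ∀ a b, polB Q u a = 0 → polB Q u' a = 0 → polB Q u b = 0 → polB Q u' b = 0 →
      polB Q (T' a) b = 0 := by
    intro a b a1 a2 b1 b2
    have := (hXY (a + b) (by simp [a1, b1]) (by simp [a2, b2])).2.2
    simp only [map_add, LinearMap.add_apply, (hXY a a1 a2).2.2, (hXY b b1 b2).2.2] at this
    rw [hT' b a, polB_comm b (T' a)] at this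
    exact (mul_eq_zero.1 (show (2 : F) * polB Q (T' a) b = 0 by linear_combination this)).resolve_left h2
  have hx1 := pairProj_left hp x
  have hx2 := pairProj_right hp x
  have hy1 := pairProj_left hp y
  have hy2 := pairProj_right hp y
  rw [decomp_pair (Q := Q) u u' x, decomp_pair (Q := Q) u u' y]
  simp only [map_add, map_smul, LinearMap.add_apply, LinearMap.smul_apply, smul_eq_mul, h' u hu,
    h' u' hp.right, huu, huu', haa' _ _ hx1 hx2 hy1 hy2, (hXY _ hy1 hy2).1, (hXY _ hy1 hy2).2.1,
    hT' (pairProj Q u u' x) u, hT' (pairProj Q u u' x) u',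
    polB_comm (pairProj Q u u' x) (T' u), polB_comm (pairProj Q u u' x) (T' u'),
    (hXY _ hx1 hx2).1, (hXY _ hx1 hx2).2.1, mul_zero, add_zero]

/-- A skew map commuting with all Eichler transformations is zero. -/
theorem skew_zero_of_comm (hQ : (polB Q).Nondegenerate) (h2 : (2 : F) ≠ 0) (h3 : 3 ≤ Module.finrank F W)
    (S : W →ₗ[F] W) (hS : ∀ x y, polB Q (S x) y = -polB Q x (S y))
    (hc : ∀ n m, Q n = 0 → polB Q n m = 0 → ∀ x, S ((eichler Q n m).1 x) = (eichler Q n m).1 (S x)) :
    S = 0 := by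
  refine hom_zero_of_singular hQ h2 h3 S fun n hn => ?_
  rcases eq_or_ne n 0 with rfl | hn0
  · exact map_zero S
  have hnn : polB Q n n = 0 := polB_self_zero hn
  have hSn : polB Q (S n) n = 0 := by
    have := hS n n
    rw [polB_comm n (S n)] at this
    exact (mul_eq_zero.1 (show (2 : F) * polB Q (S n) n = 0 by linear_combination this)).resolve_left h2
  have horth : ∀ m, polB Q n m = 0 → polB Q (S n) m = 0 := by
    intro m hm
    have := hc n m hn hm n
    rw [eichler_fix hn hm hnn hm, eichler_apply hn hm, hSn] at this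
    simp only [zero_smul, add_zero, mul_zero, sub_zero, eq_comm (a := S n), sub_eq_self] at this
    exact (smul_eq_zero.1 this).resolve_right hn0
  obtain ⟨n', hp⟩ := exists_hypPair hQ hn hn0
  set r := polB Q (S n) n' with hr
  have hSn' : S n = r • n := sub_eq_zero.1 (hQ.1 _ fun y => by
    have := horth (y - polB Q n y • n') (by simp [hp.pair])
    simp only [map_sub, map_smul, smul_eq_mul, ← hr] at this
    simp only [map_sub, map_smul, LinearMap.sub_apply, LinearMap.smul_apply, smul_eq_mul]
    linear_combination this)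
  suffices r = 0 by rw [hSn', this, zero_smul]
  obtain ⟨a, ha, ha', hQa⟩ := exists_aniso_orth_pair hQ h3 hp
  have hn'n : polB Q (S n') n = -r := by rw [hS, polB_comm]
  have e1 := hc n a hn ha n'
  have e2 := hc n (-a) hn (by rw [map_neg, ha, neg_zero]) n'
  simp only [eichler_apply hn ha, eichler_apply hn (show polB Q n (-a) = 0 by rw [map_neg, ha, neg_zero]),
    hp.symm.pair, ha', map_neg, qmap_neg, map_add, map_sub, map_smul, hn'n, hSn'] at e1 e2
  have e3 : (2 * (2 * r * Q a)) • n = 0 := by linear_combination (norm := module) -e1 - e2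
  have := (smul_eq_zero.1 e3).resolve_right hn0
  simpa [mul_eq_zero, h2, hQa] using this

end H98.TO

namespace H98.TO

open H43
open scoped commutatorElement

variable {F : Type*} [Field F] [Finite F] {W : Type*} [AddCommGroup W] [Module F W] [FiniteDimensional F W]
  {Q : QuadraticForm F W}

/-- A commutator scaling a hyperbolic pair by a square. -/
theorem exists_scale_sq {c c' : W} (h : HypPair Q c c') {r : F} (hr : r ≠ 0) :
    ∃ g ∈ commutator (orthGroup Q), g.1 c = (r * r) • c ∧
      ∀ w, polB Q w c = 0 → polB Q w c' = 0 → g.1 w = w := by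
  set x := hscale Q c c' r with hx
  set y := refl Q (c - c') with hy
  have hq : Q (c - c') = -1 := by rw [qmap_sub, h.left, h.right, h.pair]; ring
  have hyc : y.1 c = c' := by
    rw [hy, refl_apply, hq, map_sub, polB_self, h.left, h.pair]
    simp
  have hyc' : y.1 c' = c := by
    rw [hy, refl_apply, hq, map_sub, polB_self, h.right, h.symm.pair]
    simp
  have hxi : (x⁻¹).1 c' = r • c' := by
    have := orth_inv_apply_self x c'
    rw [hscale_right h hr, map_smul] at this
    conv_rhs => rw [← this, smul_smul, mul_inv_cancel₀ hr, one_smul]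
  refine ⟨⁅x, y⁆, by rw [commutator_def]; exact Subgroup.commutator_mem_commutator trivial trivial, ?_, ?_⟩
  · rw [commutatorElement_def, refl_inv, orth_mul_apply, orth_mul_apply, orth_mul_apply, hyc, hxi, map_smul,
      hyc', map_smul, hscale_left h hr, smul_smul]
  · intro w h1 h2
    have h3 : y.1 w = w := refl_fix (by rw [map_sub, h1, h2, sub_zero])
    have h4 : x.1 w = w := hscale_fix h hr h1 h2
    have h5 : (x⁻¹).1 w = w := by conv_lhs => rw [← h4, orth_inv_apply_self]
    rw [commutatorElement_def, refl_inv, orth_mul_apply, orth_mul_apply, orth_mul_apply, h3, h5, h3, h4]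

/-- Anisotropic vectors whose negated reflection is a commutator. -/
def Good (Q : QuadraticForm F W) (n : W) : Prop := Q n ≠ 0 ∧ sqc (Q n) = spinor (negOrth Q)

theorem Good.mem (hQ : (polB Q).Nondegenerate) (h2 : (2 : F) ≠ 0) (hodd : Odd (Module.finrank F W))
    (h3 : 3 ≤ Module.finrank F W) {n : W} (hn : Good Q n) :
    negOrth Q * refl Q n ∈ commutator (orthGroup Q) := by
  rw [mem_commutator_iff_odd hQ h2 (by omega)]
  refine ⟨?_, ?_⟩
  · rw [map_mul, detHom_negOrth, detHom_refl hn.1, hodd.neg_one_pow]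
    simp
  · have := congrArg Prod.snd (map_mul (invHom hQ (reflGenerates_of_two_ne_zero h2)) (negOrth Q) (refl Q n))
    simp only [invHom_apply, Prod.snd_mul] at this
    rw [this, spinor_refl hQ hn.1, hn.2]
    exact sqClass_mul_self _

/-- Every hyperbolic plane contains a good vector. -/
theorem exists_good {c c' : W} (h : HypPair Q c c') : ∃ a : F, a ≠ 0 ∧ Good Q (c + a • c') := by
  obtain ⟨a, ha, he⟩ := sqc_surjective (spinor (negOrth Q))
  have hq : Q (c + a • c') = a := by rw [qmap_add_smul, h.left, h.right, h.pair]; ring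
  exact ⟨a, ha, by rwa [hq], by rw [hq, he]⟩

theorem Good.of_eq {n n' : W} (hn : Good Q n) (h : Q n' = Q n) : Good Q n' := by
  rw [Good, h]; exact hn

/-- Two orthogonal singular points. -/
theorem exists_sing_pair (hQ : (polB Q).Nondegenerate) (h5 : 5 ≤ Module.finrank F W) :
    ∃ u u' w : W, HypPair Q u u' ∧ Q w = 0 ∧ w ≠ 0 ∧ polB Q u w = 0 ∧ polB Q u' w = 0 ∧ w ∉ F ∙ u := by
  obtain ⟨u, hu0, hu⟩ := exists_singular Q (by omega)
  obtain ⟨u', hp⟩ := exists_hypPair hQ hu hu0
  obtain ⟨w, hwm, hw0, hw⟩ := exists_singular_in (Q := Q)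
    ((polB Q).orthogonal (Submodule.span F {u, u'})) (by have := finrank_orth_pair hQ u u'; omega)
  obtain ⟨h1, h2⟩ := mem_orth_pair.1 hwm
  refine ⟨u, u', w, hp, hw, hw0, h1, h2, fun hmem => ?_⟩
  obtain ⟨s, rfl⟩ := Submodule.mem_span_singleton.1 hmem
  rw [map_smul, hp.symm.pair, smul_eq_mul, mul_one] at h2
  exact hw0 (by rw [h2, zero_smul])

/-- A skew map on an odd-dimensional space is singular. -/
theorem exists_ker_skew (hQ : (polB Q).Nondegenerate) (h2 : (2 : F) ≠ 0) (hodd : Odd (Module.finrank F W))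
    (S : W →ₗ[F] W) (hS : ∀ x y, polB Q (S x) y = -polB Q x (S y)) : ∃ x, x ≠ 0 ∧ S x = 0 := by
  classical
  let b := Module.finBasis F W
  let M : Matrix (Fin (Module.finrank F W)) (Fin (Module.finrank F W)) F :=
    Matrix.of fun i j => polB Q (S (b i)) (b j)
  have hM : M.transpose = -M := by
    ext i j
    show polB Q (S (b j)) (b i) = -polB Q (S (b i)) (b j)
    rw [hS, polB_comm]
  have hdet : M.det = 0 := by
    have := congrArg Matrix.det hM
    rw [Matrix.det_transpose, Matrix.det_neg, Fintype.card_fin, hodd.neg_one_pow] at this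
    exact (mul_eq_zero.1 (show (2 : F) * M.det = 0 by linear_combination this)).resolve_left h2
  obtain ⟨v, hv, hvM⟩ := Matrix.exists_vecMul_eq_zero_iff.2 hdet
  refine ⟨∑ i, v i • b i, fun h0 => hv ?_, hQ.1 _ fun y => ?_⟩
  · funext i
    exact Fintype.linearIndependent_iff.1 b.linearIndependent v h0 i
  · have : polB Q (S (∑ i, v i • b i)) = 0 := b.ext fun j => by
      have := congrFun hvM j
      simpa [Matrix.vecMul, dotProduct, M] using this
    rw [this, LinearMap.zero_apply]

end H98.TO
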