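import Cfsg.Agent.H98.TensOrth.Shape

/-!
The stabiliser of a singular column in a small overgroup consists of products.
-/

set_option autoImplicit false
set_option linter.unusedSectionVars false

namespace H98.TO

open H43

variable {F : Type*} [Field F] [Finite F]
  {L : Type*} [AddCommGroup L] [Module F L] [FiniteDimensional F L]
  {S : Type*} [AddCommGroup S] [Module F S] [FiniteDimensional F S]
  {V : Type*} [AddCommGroup V] [Module F V] [FiniteDimensional F V]

namespace OS

variable {d : OS F L S V} {H : Subgroup (orthGroup d.Q)}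

theorem Qel.T_unique {u : L} (hu0 : u ≠ 0) {y : orthGroup d.Q} {T T' : L →ₗ[F] S →ₗ[F] S}
    (hy : d.Qel u y T) (hy' : d.Qel u y T') {x : L} (hx : polB d.QL u x = 0) (e : S) : T x e = T' x e := by
  have := hy.mid x hx e
  rw [hy'.mid x hx, add_right_inj] at this
  exact (d.t_injective hu0 this).symm

/-- An element of a small overgroup fixing a singular column is a product. -/
theorem stab (hH : d.Over H) (hS : d.Small H) {u : L} (hu : d.QL u = 0) (hu0 : u ≠ 0)
    {h : orthGroup d.Q} (hh : h ∈ H) (hW : ∀ e, h.1 (d.t u e) ∈ d.W u) : d.IsT h := by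
  classical
  obtain ⟨u', hp⟩ := exists_hypPair d.ndL hu hu0
  have huu := polB_self_zero (Q := d.QL) hu
  have hu'u : polB d.QL u' u = 1 := hp.symm.pair
  -- the inverse fixes the column as well
  have hW' : ∀ e, (h⁻¹).1 (d.t u e) ∈ d.W u := by
    have hmap : (d.W u).map h.1.toLinearMap = d.W u := by
      refine Submodule.eq_of_le_of_finrank_le ?_ (le_of_eq ?_)
      · rintro _ ⟨z, ⟨e, rfl⟩, rfl⟩
        exact hW e
      · exact (LinearEquiv.finrank_map_eq h.1 (d.W u)).symm
    intro e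
    obtain ⟨z, hz, hze⟩ : d.t u e ∈ (d.W u).map h.1.toLinearMap := by rw [hmap]; exact d.t_mem_W u e
    rw [← hze]
    show (h⁻¹).1 (h.1 z) ∈ d.W u
    rwa [orth_inv_apply_self]
  have hker : ∀ g : orthGroup d.Q, (∀ e, (g⁻¹).1 (d.t u e) ∈ d.W u) → ∀ v, d.C u v = 0 →
      d.C u (g.1 v) = 0 := fun g hg v hv => d.S_ext fun e => by
    rw [d.b_C, ← orth_apply_inv_self g (d.t u e), orth_polB_map, map_zero, LinearMap.zero_apply]
    exact d.perp_W hv (hg e)
  have hkerh := hker h hW'
  have hkerh' := hker h⁻¹ (by simpa using hW)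
  -- conjugates of Siegel elements
  have hconj : ∀ w, polB d.QL u w = 0 → ∃ w', polB d.QL u w' = 0 ∧ h * d.sg u w * h⁻¹ = d.sg u w' := by
    intro w hw
    obtain ⟨T, hT⟩ := exists_qel hu hu0 (y := h * d.sg u w * h⁻¹)
      (fun e => by
        obtain ⟨z, hz⟩ := hW' e
        rw [orth_mul_apply, orth_mul_apply, ← hz, (d.sg_qel u w hu hw).fixW, hz, orth_apply_inv_self])
      (fun z hz => by
        have h1 := hkerh' z hz
        rw [orth_mul_apply, orth_mul_apply, d.sg_apply hu hw ((h⁻¹).1 z), h1]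
        simp only [map_zero, smul_zero, sub_zero, add_zero, map_sub, orth_apply_inv_self, sub_sub_cancel_left]
        exact neg_mem (hW _))
    exact q_shape hH hS hu hu0 (mul_mem (mul_mem hh (hH.sg_mem hu hw)) (inv_mem hh)) hT
  choose! σ hσ0 hσ using hconj
  set c : S →ₗ[F] S := d.C u ∘ₗ h.1.toLinearMap ∘ₗ d.t u' with hc
  have hC : ∀ v, d.C u (h.1 v) = c (d.C u v) := fun v => by
    have h1 := hkerh (v - d.t u' (d.C u v)) (by rw [map_sub, d.C_t, hu'u, one_smul, sub_self])
    rw [map_sub, map_sub, sub_eq_zero] at h1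
    exact h1
  have hsurj : Function.Surjective c := fun e =>
    ⟨d.C u ((h⁻¹).1 (d.t u' e)), by rw [← hC, orth_apply_inv_self, d.C_t, hu'u, one_smul]⟩
  have hinj : Function.Injective c := LinearMap.injective_iff_surjective.2 hsurj
  have hrel : ∀ w, polB d.QL u w = 0 → ∀ v, h.1 ((d.sg u w).1 v) = (d.sg u (σ w)).1 (h.1 v) := by
    intro w hw v
    rw [← hσ w hw, orth_mul_apply, orth_mul_apply, orth_inv_apply_self]
  have hmid : ∀ w, polB d.QL u w = 0 → ∀ e, h.1 (d.t w e) - d.t (σ w) (c e) ∈ d.W u := by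
    intro w hw e
    have h1 := hrel w hw (d.t u' e)
    rw [d.sg_apply hu hw, d.sg_apply hu (hσ0 w hw), hC, d.C_t u u', hu'u, one_smul] at h1
    simp only [map_add, map_sub, map_smul] at h1
    rw [show h.1 (d.t w e) - d.t (σ w) (c e) = h.1 (d.t u (d.C w (d.t u' e))) + d.QL w • h.1 (d.t u e)
        - d.t u (d.C (σ w) (h.1 (d.t u' e))) - d.QL (σ w) • d.t u (c e) by
      linear_combination (norm := module) h1]
    exact sub_mem (sub_mem (add_mem (hW _) (Submodule.smul_mem _ _ (hW _))) (d.t_mem_W _ _))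
      (Submodule.smul_mem _ _ (d.t_mem_W _ _))
  have hbot : ∀ x w, polB d.QL u x = 0 → polB d.QL u w = 0 → ∀ e,
      polB d.QL x w • h.1 (d.t u e) = polB d.QL (σ x) (σ w) • d.t u (c e) := by
    intro x w hx hw e
    have h0 : d.C u (d.t x e) = 0 := by rw [d.C_t, polB_comm, hx, zero_smul]
    have h1 := hrel w hw (d.t x e)
    rw [d.sg_apply hu hw, d.sg_apply hu (hσ0 w hw), hC, h0] at h1
    simp only [map_zero, smul_zero, sub_zero, add_zero, map_sub, d.C_t w x, map_smul, sub_right_inj] at h1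
    have h2 : d.C (σ w) (h.1 (d.t x e)) = polB d.QL (σ x) (σ w) • c e := by
      have h3 := d.C_W (hmid x hx e) (hσ0 w hw)
      rwa [map_sub, d.C_t, sub_eq_zero] at h3
    rw [h1, h2, map_smul]
  -- the multiplier
  obtain ⟨m, hum, -, hQm⟩ := exists_aniso_orth_pair d.ndL d.threeL hp
  have hBm : polB d.QL m m ≠ 0 := by rw [polB_self]; exact mul_ne_zero d.two hQm
  set μ := (polB d.QL m m)⁻¹ * polB d.QL (σ m) (σ m) with hμ
  have hu_img : ∀ e, h.1 (d.t u e) = μ • d.t u (c e) := fun e => by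
    rw [hμ, ← smul_smul, ← hbot m m hum hum e, smul_smul, inv_mul_cancel₀ hBm, one_smul]
  haveI : Nontrivial S := Module.nontrivial_of_finrank_pos (R := F) (by have := d.three; omega)
  obtain ⟨e₀, he₀⟩ := exists_ne (0 : S)
  have hce₀ : c e₀ ≠ 0 := fun h0 => he₀ (hinj (h0.trans (map_zero c).symm))
  have hμ0 : μ ≠ 0 := fun h0 => by
    have h1 := hu_img e₀
    rw [h0, zero_smul, LinearEquiv.map_eq_zero_iff] at h1
    exact d.t_ne_zero hu0 he₀ h1
  have hcsim : ∀ e e', polB d.QS (c e) (c e') = μ⁻¹ * polB d.QS e e' := by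
    intro e e'
    have h1 := orth_polB_map h (d.t u' e') (d.t u e)
    rw [hu_img, map_smul, smul_eq_mul, ← d.b_C, hC, d.C_t, d.f_t, hu'u, one_smul, one_mul,
      polB_comm (c e') (c e), polB_comm e' e] at h1
    rw [← h1, ← mul_assoc, inv_mul_cancel₀ hμ0, one_mul]
  have hσB : ∀ x w, polB d.QL u x = 0 → polB d.QL u w = 0 →
      polB d.QL (σ x) (σ w) = μ * polB d.QL x w := by
    intro x w hx hw
    have h1 := hbot x w hx hw e₀
    rw [hu_img, smul_smul, ← sub_eq_zero, ← sub_smul] at h1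
    have h2 := (smul_eq_zero.1 h1).resolve_right (d.t_ne_zero hu0 hce₀)
    linear_combination -h2
  obtain ⟨e₁, he₁⟩ := exists_polB_eq d.ndS hce₀ 1
  let Sm : L →ₗ[F] L := d.D e₁ ∘ₗ h.1.toLinearMap ∘ₗ d.t.flip e₀
  have hSm : ∀ w, polB d.QL u w = 0 → ∃ r : F, Sm w = σ w + r • u := by
    intro w hw
    obtain ⟨z, hz⟩ := hmid w hw e₀
    refine ⟨polB d.QS z e₁, ?_⟩
    show d.D e₁ (h.1 (d.t w e₀)) = _
    rw [show h.1 (d.t w e₀) = d.t u z + d.t (σ w) (c e₀) by rw [hz]; abel, map_add, d.D_t, d.D_t, he₁,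
      one_smul, add_comm]
  have hSmu : Sm u = μ • u := by
    show d.D e₁ (h.1 (d.t u e₀)) = _
    rw [hu_img, map_smul, d.D_t, he₁, one_smul]
  let a : L →ₗ[F] L := (μ • (polB d.QL).flip u').smulRight u + ((polB d.QL).flip u).smulRight u' +
    pairProj d.QL u u' ∘ₗ Sm ∘ₗ pairProj d.QL u u'
  have ha_apply : ∀ x, a x = (μ * polB d.QL x u') • u + polB d.QL x u • u' +
      pairProj d.QL u u' (Sm (pairProj d.QL u u' x)) := fun x => rfl
  have hau : a u = μ • u := by
    rw [ha_apply, hp.pair, huu, pairProj_apply u u' u, hp.pair, huu]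
    simp
  have hmodu : ∀ x, polB d.QL u x = 0 → ∃ r : F, a x = σ x + r • u := by
    intro x hx
    obtain ⟨r, hr⟩ := hSm x hx
    have hxu : polB d.QL x u = 0 := by rw [polB_comm]; exact hx
    have e2 : pairProj d.QL u u' x = x - polB d.QL x u' • u := by
      rw [pairProj_apply, hxu, zero_smul, sub_zero]
    have e3 : polB d.QL (σ x) u = 0 := by rw [polB_comm]; exact hσ0 x hx
    refine ⟨μ * polB d.QL x u' + r - (polB d.QL (σ x) u' + r) , ?_⟩
    rw [ha_apply, hxu, e2, map_sub, map_smul, hSmu, hr, pairProj_apply]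
    simp only [map_add, map_sub, map_smul, LinearMap.add_apply, LinearMap.sub_apply, LinearMap.smul_apply,
      smul_eq_mul, hp.pair, huu, e3]
    module
  have hasim : ∀ x y, polB d.QL (a x) (a y) = μ * polB d.QL x y := by
    have hP : ∀ x, polB d.QL u (pairProj d.QL u u' x) = 0 := pairProj_left hp
    have hP' : ∀ x, polB d.QL u' (pairProj d.QL u u' x) = 0 := pairProj_right hp
    have hperp : ∀ x y, polB d.QL u x = 0 → polB d.QL u y = 0 →
        polB d.QL (pairProj d.QL u u' (Sm x)) (pairProj d.QL u u' (Sm y)) = μ * polB d.QL x y := by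
      intro x y hx hy
      obtain ⟨r, hr⟩ := hSm x hx
      obtain ⟨s, hs⟩ := hSm y hy
      rw [← hσB x y hx hy, hr, hs]
      simp only [pairProj_apply, map_add, map_sub, map_smul, LinearMap.add_apply, LinearMap.sub_apply,
        LinearMap.smul_apply, smul_eq_mul, hp.pair, hu'u, huu, polB_self_zero hp.right,
        polB_comm (σ x) u, polB_comm (σ y) u, hσ0 x hx, hσ0 y hy, polB_comm u' (σ x), polB_comm u' (σ y)]
      ring
    intro x y
    have e := hperp _ _ (hP x) (hP y)
    have e2 : polB d.QL x y = polB d.QL x u' * polB d.QL y u + polB d.QL x u * polB d.QL y u' +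
        polB d.QL (pairProj d.QL u u' x) (pairProj d.QL u u' y) := by
      conv_lhs => rw [decomp_pair (Q := d.QL) u u' x, decomp_pair (Q := d.QL) u u' y]
      simp only [map_add, map_smul, LinearMap.add_apply, LinearMap.smul_apply, smul_eq_mul, huu, hp.pair,
        hu'u, polB_self_zero hp.right, hP, hP', polB_comm _ u, polB_comm (pairProj d.QL u u' x) u']
      ring
    rw [ha_apply x, ha_apply y]
    simp only [map_add, map_smul, LinearMap.add_apply, LinearMap.smul_apply, smul_eq_mul, huu, hp.pair,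
      hu'u, polB_self_zero hp.right, hP, hP', e,
      polB_comm (pairProj d.QL u u' (Sm (pairProj d.QL u u' x))) u,
      polB_comm (pairProj d.QL u u' (Sm (pairProj d.QL u u' x))) u']
    rw [e2]
    ring
  have hainj : Function.Injective a := (injective_iff_map_eq_zero a).2 fun x hx => d.ndL.1 x fun y => by
    have := hasim x y
    rw [hx, map_zero, LinearMap.zero_apply, eq_comm, mul_eq_zero] at this
    exact this.resolve_left hμ0
  let ae : L ≃ₗ[F] L := LinearEquiv.ofInjectiveEndo a hainj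
  let ce : S ≃ₗ[F] S := LinearEquiv.ofInjectiveEndo c hinj
  have hae : ∀ x, ae x = a x := fun x => rfl
  have hce : ∀ x, ce x = c x := fun x => rfl
  have haeu : ae u = μ • u := hau
  have haperp : ∀ x, polB d.QL u x = 0 → polB d.QL u (ae.symm x) = 0 := fun x hx => by
    have h1 := hasim u (ae.symm x)
    rw [← hae (ae.symm x), ae.apply_symm_apply, hau, map_smul, LinearMap.smul_apply, hx, smul_zero,
      eq_comm, mul_eq_zero] at h1
    exact h1.resolve_left hμ0
  let h₀ : orthGroup d.Q := ⟨d.tens ae ce, d.tens_isom (mul_inv_cancel₀ hμ0) hasim hcsim⟩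
  have h₀T : d.IsT h₀ := ⟨ae, ce, rfl⟩
  have h₀t : ∀ x e, h₀.1 (d.t x e) = d.t (a x) (c e) := fun x e => d.tens_t ae ce x e
  -- the quotient
  set k := h₀⁻¹ * h with hkdef
  have hk0 : ∀ v, h₀.1 (k.1 v) = h.1 v := fun v => by
    rw [hkdef, orth_mul_apply, orth_apply_inv_self]
  have hkfix : ∀ e, k.1 (d.t u e) = d.t u e := fun e => h₀.1.injective (by
    rw [hk0, h₀t, hau, hu_img, map_smul, LinearMap.smul_apply])
  obtain ⟨T, hk⟩ := exists_qel hu hu0 (y := k) hkfix (fun z hz => by
    have e := d.ker_ext hu0 (M := V ⧸ d.W u) (g := (d.W u).mkQ ∘ₗ (k.1.toLinearMap - LinearMap.id)) (h := 0)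
      (fun x e hx => by
        simp only [LinearMap.comp_apply, Submodule.mkQ_apply, LinearMap.zero_apply,
          Submodule.Quotient.mk_eq_zero, LinearMap.sub_apply, LinearMap.id_apply, LinearEquiv.coe_coe]
        obtain ⟨z, hz⟩ := hmid x hx e
        obtain ⟨r, hr⟩ := hmodu x hx
        refine ⟨μ⁻¹ • ce.symm (z - r • c e), h₀.1.injective ?_⟩
        rw [map_sub h₀.1, hk0, h₀t x e, map_smul (d.t u), map_smul h₀.1, h₀t, hau, ← hce (ce.symm (z - r • c e)),
          ce.apply_symm_apply, map_smul, LinearMap.smul_apply, smul_smul, inv_mul_cancel₀ hμ0, one_smul,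
          map_sub, hz, hr, map_add, LinearMap.add_apply, map_smul, map_smul, LinearMap.smul_apply]
        abel) hz
    simpa only [LinearMap.comp_apply, Submodule.mkQ_apply, LinearMap.zero_apply,
      Submodule.Quotient.mk_eq_zero, LinearMap.sub_apply, LinearMap.id_apply, LinearEquiv.coe_coe] using e)
  have hksg : ∀ w, polB d.QL u w = 0 → k * d.sg u w = d.sg u w * k := by
    intro w hw
    have h1 : h₀ * d.sg u w = d.sg u (σ w) * h₀ := d.orth_ext' fun x e => by
      obtain ⟨r, hr⟩ := hmodu w hw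
      have hxu : polB d.QL (a x) u = polB d.QL x u := mul_left_cancel₀ hμ0 (by
        rw [← hasim x u, hau, map_smul, smul_eq_mul])
      have hσw : σ w = a w - r • u := by rw [hr]; abel
      have hawu : polB d.QL (a w) u = 0 := mul_left_cancel₀ hμ0 (by
        rw [← smul_eq_mul, ← map_smul, ← hau, hasim, polB_comm, hw])
      have hQw : d.QL (σ w) = μ * d.QL w := mul_left_cancel₀ d.two (by
        rw [← polB_self, hσB w w hw hw, polB_self]; ring)
      rw [orth_mul_apply, orth_mul_apply, d.sg_t hu hw, map_sub, map_sub, map_add, h₀t, h₀t, h₀t, h₀t,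
        d.sg_t hu (hσ0 w hw), hxu, hQw, hau, hσw]
      simp only [map_sub, map_smul, LinearMap.sub_apply, LinearMap.smul_apply, smul_eq_mul, hasim, hxu]
      module
    rw [hkdef, mul_assoc, inv_mul_eq_iff_eq_mul, ← mul_assoc, ← mul_assoc, h1, mul_assoc (d.sg u (σ w)),
      mul_inv_cancel, mul_one, ← hσ w hw, inv_mul_cancel_right]
  have hsym : ∀ x, polB d.QL u x = 0 → ∀ p q, polB d.QS (T x p) q = polB d.QS p (T x q) := fun x hx p q => by
    simpa using hk.adjoint_of_comm (d.sg_qel u x hu hx) hu hu0 hx (R := -LinearMap.id) (fun p q => by simp)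
      (fun z _ e => by simp) (hksg x hx) p q
  -- commutators with the second factor
  let θ : orthGroup d.QS →* orthGroup d.QS :=
    { toFun := fun g => ⟨ce * g.1 * ce⁻¹, fun x => by
        refine mul_left_cancel₀ d.two (mul_left_cancel₀ hμ0 ?_)
        obtain ⟨y, rfl⟩ := hsurj x
        rw [← polB_self, ← polB_self]
        show μ * polB d.QS (ce (g.1 (ce.symm (c y)))) (ce (g.1 (ce.symm (c y)))) = _
        rw [← hce y, ce.symm_apply_apply, hce, hce, hcsim, hcsim, orth_polB_map]⟩
      map_one' := Subtype.ext (by simp)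
      map_mul' := fun g g' => Subtype.ext (by simp [mul_assoc]) }
  have hθ : ∀ g, g ∈ commutator (orthGroup d.QS) → θ g ∈ commutator (orthGroup d.QS) := fun g hg => by
    rw [commutator_def] at hg ⊢
    exact Subgroup.commutator_mono le_top le_top
      (Subgroup.map_commutator ⊤ ⊤ θ ▸ Subgroup.mem_map_of_mem θ hg)
  have hθlift : ∀ g, d.liftS (θ g) = h₀ * d.liftS g * h₀⁻¹ := fun g => by
    rw [eq_mul_inv_iff_mul_eq]
    refine d.orth_ext' fun x e => ?_
    rw [orth_mul_apply, orth_mul_apply, h₀t, d.liftS_t, d.liftS_t, h₀t]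
    show d.t (a x) (ce (g.1 (ce.symm (c e)))) = _
    rw [← hce e, ce.symm_apply_apply, hce]
  have hcomm : ∀ g, g ∈ commutator (orthGroup d.QS) →
      h₀ * (k * (d.liftS g * k⁻¹ * (d.liftS g)⁻¹)) * h₀⁻¹ ∈ H := fun g hg => by
    rw [show h₀ * (k * (d.liftS g * k⁻¹ * (d.liftS g)⁻¹)) * h₀⁻¹ =
      h * d.liftS g * h⁻¹ * (h₀ * d.liftS g * h₀⁻¹)⁻¹ by rw [hkdef]; group, ← hθlift]
    exact mul_mem (mul_mem (mul_mem hh (hH.liftS_mem hg)) (inv_mem hh)) (inv_mem (hH.liftS_mem (hθ g hg)))
  have hscal : ∀ x, polB d.QL u x = 0 → ∃ r : F, ∀ e, T x e = r • e := by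
    intro x hx
    refine selfAdj_scalar d.ndS d.two d.three d.q_cases (T x) (hsym x hx) fun ν hν => ?_
    rcases eq_or_ne ν 0 with rfl | hν0
    · simp
    obtain ⟨ν', hpν⟩ := exists_hypPair d.ndS hν hν0
    obtain ⟨n, hn, -, hQn⟩ := exists_aniso_orth_pair d.ndS d.three hpν
    set g := eichler d.QS ν n with hg
    have hgc := eichler_mem_comm d.ndS d.two d.three hν hn
    set T₂ : L →ₗ[F] S →ₗ[F] S := (-T).compr₂ g.1.toLinearMap |>.compl₂ (g⁻¹).1.toLinearMap with hT₂
    have hy := hk.mul (hk.inv.conj_S g (T' := T₂) fun x _ e => rfl)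
    set T₃ : L →ₗ[F] S →ₗ[F] S :=
      μ • (((T + T₂) ∘ₗ ae.symm.toLinearMap).compr₂ c |>.compl₂ ce.symm.toLinearMap) with hT₃
    have hy' := hy.conj (g := h₀) (a := ae) (c := ce) rfl hμ0 haeu haperp (T' := T₃) fun z _ e => rfl
    obtain ⟨w, hw, hgw⟩ := q_shape hH hS hu hu0 (hcomm g hgc) hy'
    rw [hgw] at hy'
    have hax : polB d.QL u (a x) = 0 := mul_left_cancel₀ hμ0 (by
      rw [← smul_eq_mul, ← LinearMap.smul_apply, ← map_smul, ← hau, hasim, hx])
    have h1 := hy'.T_unique hu0 (d.sg_qel u w hu hw) hax (c ν)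
    have h2 : T₃ (a x) (c ν) = μ • c (T x ν - g.1 (T x ν)) := by
      show μ • c ((T + T₂) (ae.symm (ae x)) (ce.symm (ce ν))) = _
      rw [ae.symm_apply_apply, ce.symm_apply_apply]
      show μ • c (T x ν + g.1 (-(T x ((g⁻¹).1 ν)))) = _
      rw [hg, eichler_inv hν hn, eichler_fix hν (by rw [map_neg, hn, neg_zero]) (polB_self_zero hν)
        (by rw [map_neg, hn, neg_zero]), map_neg, ← sub_eq_add_neg]
    set r := -(polB d.QL (a x) w) with hr
    have h4 : c (μ • (T x ν - g.1 (T x ν))) = c (r • ν) := by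
      rw [map_smul, ← h2, h1, map_smul, hr]
      simp
    have h5 := congrArg (fun z => polB d.QS z n) (hinj h4)
    simp only [map_sub, map_smul, LinearMap.sub_apply, LinearMap.smul_apply, smul_eq_mul, hn, mul_zero,
      hg, eichler_apply hν hn, map_add, LinearMap.add_apply, polB_self] at h5
    have h6 : μ * (2 * d.QS n) * polB d.QS (T x ν) ν = 0 := by linear_combination -h5
    exact (mul_eq_zero.1 h6).resolve_left (mul_ne_zero hμ0 (mul_ne_zero d.two hQn))
  obtain ⟨w, hw, hk'⟩ := hk.exists_scalar_sg hu hu0 hscal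
  set k' := k * (d.sg u w)⁻¹ with hk'def
  obtain ⟨X, hX, hXv⟩ := hk'.zero_shape hu hu0
  have hX0 : X = 0 := by
    refine skew_zero_of_comm d.ndS d.two d.three X hX fun ν n hν hn e => ?_
    set g := eichler d.QS ν n with hg
    have hgc := eichler_mem_comm d.ndS d.two d.three hν hn
    have hgsg : d.liftS g * (d.sg u w) = d.sg u w * d.liftS g := d.orth_ext' fun x z => by
      rw [orth_mul_apply, orth_mul_apply, sg, d.liftL_t, d.liftS_t, d.liftS_t, d.liftL_t]
    have hy := (hk'.mul (hk'.inv.conj_S g (T' := 0) fun x _ e => by simp)).congr_T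
      (T' := 0) fun x _ e => by simp
    have e1 : k' * (d.liftS g * k'⁻¹ * (d.liftS g)⁻¹) = k * (d.liftS g * k⁻¹ * (d.liftS g)⁻¹) := by
      rw [hk'def, mul_inv_rev, inv_inv, ← mul_assoc (d.liftS g), hgsg]
      group
    rw [e1] at hy
    have hy' := hy.conj (g := h₀) (a := ae) (c := ce) rfl hμ0 haeu haperp (T' := 0) fun z _ e => by simp
    have h1 := hS u _ hu hu0 (hcomm g hgc) hy'
    rw [← map_one (MulAut.conj h₀)] at h1
    have h2 : k' * (d.liftS g * k'⁻¹ * (d.liftS g)⁻¹) = 1 := by rw [e1]; exact (MulAut.conj h₀).injective h1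
    have h3 : k' * d.liftS g = d.liftS g * k' := by
      rw [← mul_assoc, mul_inv_eq_one, ← mul_assoc, mul_inv_eq_iff_eq_mul] at h2
      exact h2
    have h4 : k'.1 ((d.liftS g).1 (d.t u' e)) = (d.liftS g).1 (k'.1 (d.t u' e)) := by
      rw [← orth_mul_apply, h3, orth_mul_apply]
    simp only [hXv, d.liftS_t, map_add, d.C_t, hu'u, one_smul, add_right_inj] at h4
    exact d.t_injective hu0 h4
  have hk1 : k' = 1 := orth_ext fun v => by rw [hXv, hX0, orth_one_apply]; simp
  rw [hk'def, mul_inv_eq_one] at hk1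
  rw [show h = h₀ * d.sg u w by rw [← hk1, hkdef, mul_inv_cancel_left]]
  exact h₀T.mul (d.sg_isT u w)

end OS

end H98.TO
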