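import Cfsg.Agent.H98.TensOrth.Root

/-!
No element outside the product maps a pure singular vector into a singular column.
-/

set_option autoImplicit false
set_option linter.unusedSectionVars false

namespace H98.TO

open H43

variable {F : Type*} [Field F] [Finite F]
  {L : Type*} [AddCommGroup L] [Module F L] [FiniteDimensional F L]
  {S : Type*} [AddCommGroup S] [Module F S] [FiniteDimensional F S]
  {V : Type*} [AddCommGroup V] [Module F V] [FiniteDimensional F V]

namespace OS

variable {d : OS F L S V} {H : Subgroup (orthGroup d.Q)}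

/-- The vectors of `S` which `g` carries from the column of `v` into that of `u`. -/
def into (d : OS F L S V) (g : orthGroup d.Q) (v u : L) : Submodule F S :=
  (d.W u).comap (g.1.toLinearMap ∘ₗ d.t v)

theorem mem_into {g : orthGroup d.Q} {v u : L} {e : S} : e ∈ into d g v u ↔ g.1 (d.t v e) ∈ d.W u := Iff.rfl

/-- The Case of the induction on the common part. -/
def Induct (d : OS F L S V) (H : Subgroup (orthGroup d.Q)) (k : ℕ) : Prop :=
  ∀ (g : orthGroup d.Q) (v u : L), g ∈ H → d.QL v = 0 → v ≠ 0 → d.QL u = 0 → u ≠ 0 →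
    k < Module.finrank F (into d g v u) → d.IsT g

/-- A root conjugate with a larger common part. -/
theorem grow (hH : d.Over H) (hS : d.Small H) {g : orthGroup d.Q} (hg : g ∈ H) {v u : L} (hv : d.QL v = 0)
    (hv0 : v ≠ 0) (hu : d.QL u = 0) (hu0 : u ≠ 0) {k : ℕ} (hk : k ≤ Module.finrank F (into d g v u))
    (ih : Induct d H k) {w : L} (hw : polB d.QL v w = 0) (hwv : w ∉ F ∙ v) {z : V} (hz : g.1 z ∈ d.W u)
    (hz' : z ∉ (into d g v u).map (d.t v)) (hbz : g.1 ((d.sg v w).1 z) ∈ d.W u) : d.IsT g := by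
  classical
  set b := g * d.sg v w * g⁻¹ with hb
  have hb' : ∀ x, b.1 (g.1 x) = g.1 ((d.sg v w).1 x) := fun x => by
    rw [hb, orth_mul_apply, orth_mul_apply, orth_inv_apply_self]
  set P := into d g v u with hP
  set P₀ := ((P.map (d.t v)).map g.1.toLinearMap).comap (d.t u) with hP₀
  have hd : Module.finrank F P₀ = Module.finrank F P := by
    have h1 : P₀.map (d.t u) = (P.map (d.t v)).map g.1.toLinearMap := Submodule.map_comap_eq_of_le (by
      rintro _ ⟨_, ⟨e, he, rfl⟩, rfl⟩; exact he)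
    rw [(Submodule.equivMapOfInjective _ (d.t_injective hu0) P₀).finrank_eq, h1, LinearEquiv.finrank_map_eq,
      ← (Submodule.equivMapOfInjective _ (d.t_injective hv0) P).finrank_eq]
  have hle : P₀ ≤ into d b u u := by
    intro e he
    obtain ⟨_, ⟨p, hp, rfl⟩, hpe⟩ := he
    rw [mem_into, ← hpe]
    show b.1 (g.1 (d.t v p)) ∈ d.W u
    rw [hb', (d.sg_qel v w hv hw).fixW]
    exact hp
  obtain ⟨e, he⟩ := hz
  have hne : P₀ ≠ into d b u u := fun h => by
    have he' : e ∈ P₀ := by rw [h, mem_into, he, hb']; exact hbz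
    obtain ⟨y, hy, hye⟩ := he'
    rw [he] at hye
    exact hz' (g.1.injective hye ▸ hy)
  have hlt := Submodule.finrank_lt_finrank_of_lt (lt_of_le_of_ne hle hne)
  have hbT := ih b u u (mul_mem (mul_mem hg (hH.sg_mem hv hw)) (inv_mem hg)) hu hu0 hu hu0 (by omega)
  exact root_conj hH hS hg hv hw hwv hv0 hbT

/-- The degenerate case. -/
theorem caseA (hH : d.Over H) (hS : d.Small H) {g : orthGroup d.Q} (hg : g ∈ H) {v u : L} (hv : d.QL v = 0)
    (hv0 : v ≠ 0) (hu : d.QL u = 0) (hu0 : u ≠ 0) {k : ℕ} (hk0 : 1 ≤ k)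
    (hk : k ≤ Module.finrank F (into d g v u)) (ih : Induct d H k) {z : V} (hz : g.1 z ∈ d.W u)
    (hz' : z ∉ (into d g v u).map (d.t v)) (hCz : d.C v z = 0) : d.IsT g := by
  classical
  set P := into d g v u with hP
  set E := LinearMap.ker (polB d.QL v) with hE
  let ψ : E →ₗ[F] S ⧸ P := P.mkQ ∘ₗ d.Cl z ∘ₗ E.subtype
  have h1 := ψ.finrank_range_add_finrank_ker
  have h2 : Module.finrank F (LinearMap.range ψ) ≤ Module.finrank F (S ⧸ P) := Submodule.finrank_le _
  have h3 := Submodule.finrank_quotient_add_finrank P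
  have h4 := (polB d.QL v).finrank_range_add_finrank_ker
  have h5 : Module.finrank F (LinearMap.range (polB d.QL v)) ≤ 1 :=
    (Submodule.finrank_le _).trans (by simp)
  obtain ⟨w, hw, hwv⟩ : ∃ w : E, ψ w = 0 ∧ (w : L) ∉ F ∙ v := by
    by_contra hcon
    push Not at hcon
    have h6 : Module.finrank F ((LinearMap.ker ψ).map E.subtype) ≤ 1 := by
      rw [← finrank_span_singleton (K := F) hv0]
      refine Submodule.finrank_mono ?_
      rintro _ ⟨w, hw, rfl⟩
      exact hcon w hw
    rw [← (Submodule.equivMapOfInjective _ E.injective_subtype (LinearMap.ker ψ)).finrank_eq] at h6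
    have := d.gap
    have h7 : Module.finrank F E = Module.finrank F (LinearMap.ker (polB d.QL v)) := rfl
    omega
  have hmem : d.C (w : L) z ∈ P := by
    simpa [ψ, Submodule.Quotient.mk_eq_zero, d.Cl_apply] using hw
  refine grow hH hS hg hv hv0 hu hu0 hk ih (w := (w : L)) w.2 hwv hz hz' ?_
  rw [d.sg_apply hv w.2, hCz]
  simp only [map_zero, smul_zero, sub_zero, add_zero, map_sub]
  exact sub_mem hz hmem

/-- A degenerate pairing finishes the step. -/
theorem finish (hH : d.Over H) (hS : d.Small H) {g : orthGroup d.Q} (hg : g ∈ H) {v u : L} (hv : d.QL v = 0)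
    (hv0 : v ≠ 0) (hu : d.QL u = 0) (hu0 : u ≠ 0) {k : ℕ} (hk0 : 1 ≤ k)
    (hk : k ≤ Module.finrank F (into d g v u)) (ih : Induct d H k) {w : L} (hw : polB d.QL v w = 0)
    (hwv : w ∉ F ∙ v) {l : V} (hl : g.1 l ∈ d.W u) (hl' : l ∉ (into d g v u).map (d.t v))
    (hK : ∀ l', g.1 l' ∈ d.W u → polB d.Q ((d.sg v w).1 l) l' = 0) : d.IsT g := by
  classical
  have hw' : polB d.QL v (-w) = 0 := by rw [map_neg, hw, neg_zero]
  have hwv' : -w ∉ F ∙ v := fun h => hwv (neg_mem_iff.1 h)
  have hback : (d.sg v (-w)).1 ((d.sg v w).1 l) = l := by rw [← d.sg_inv hv hw, orth_inv_apply_self]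
  set l₁ := (d.sg v w).1 l with hl₁
  have hl₁' : l₁ ∉ (into d g v u).map (d.t v) := by
    rintro ⟨p, hp, hpe⟩
    refine hl' ⟨p, hp, ?_⟩
    rw [← hback, ← hpe, (d.sg_qel v (-w) hv hw').fixW]
  by_cases hW : g.1 l₁ ∈ d.W u
  · exact grow hH hS hg hv hv0 hu hu0 hk ih hw' hwv' hW hl₁' (by rw [hback]; exact hl)
  set b := g * d.sg v (-w) * g⁻¹ with hb
  have hb' : ∀ x, b.1 (g.1 x) = g.1 ((d.sg v (-w)).1 x) := fun x => by
    rw [hb, orth_mul_apply, orth_mul_apply, orth_inv_apply_self]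
  have hbm : b ∈ H := mul_mem (mul_mem hg (hH.sg_mem hv hw')) (inv_mem hg)
  refine root_conj hH hS hg hv hw' hwv' hv0 ?_
  have hkb : k ≤ Module.finrank F (into d b u u) := by
    refine hk.trans ?_
    rw [(Submodule.equivMapOfInjective _ (d.t_injective hv0) (into d g v u)).finrank_eq,
      ← LinearEquiv.finrank_map_eq g.1,
      (Submodule.equivMapOfInjective _ (d.t_injective hu0) (into d b u u)).finrank_eq]
    refine Submodule.finrank_mono ?_
    rintro _ ⟨_, ⟨p, hp, rfl⟩, rfl⟩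
    obtain ⟨e, he⟩ := id hp
    change d.t u e = g.1 (d.t v p) at he
    refine ⟨e, ?_, he⟩
    show b.1 (d.t u e) ∈ d.W u
    rw [he, hb', (d.sg_qel v (-w) hv hw').fixW]
    exact hp
  refine caseA hH hS hbm hu hu0 hu hu0 hk0 hkb ih (z := g.1 l₁) (by rw [hb', hback]; exact hl)
    (fun h => hW ?_) (d.S_ext fun e => ?_)
  · obtain ⟨e, -, he⟩ := h
    rw [← he]; exact d.t_mem_W u e
  · rw [d.b_C, ← orth_apply_inv_self g (d.t u e), orth_polB_map, map_zero, LinearMap.zero_apply]
    exact hK _ (by rw [orth_apply_inv_self]; exact d.t_mem_W u e)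

/-- A vector with few linear conditions and one quadratic one. -/
theorem exists_point {W : Type*} [AddCommGroup W] [Module F W] [FiniteDimensional F W] (Q : QuadraticForm F W)
    (h2 : (2 : F) ≠ 0) (D : Submodule F W) (μ : W →ₗ[F] F) (hD : 3 ≤ Module.finrank F D) :
    ∃ w ∈ D, w ≠ 0 ∧ μ w = Q w := by
  classical
  by_cases h : ∃ x ∈ D, μ x ≠ 0 ∧ Q x ≠ 0
  · obtain ⟨x, hx, h1, h2'⟩ := h
    refine ⟨(μ x / Q x) • x, D.smul_mem _ hx, smul_ne_zero (div_ne_zero h1 h2') (fun h0 => h1 (by rw [h0, map_zero])), ?_⟩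
    rw [map_smul, qmap_smul, smul_eq_mul]; field_simp
  push Not at h
  by_cases h0 : ∀ x ∈ D, μ x = 0
  · obtain ⟨w, hw, hw0, hwQ⟩ := exists_singular_in (Q := Q) D hD
    exact ⟨w, hw, hw0, by rw [h0 w hw, hwQ]⟩
  push Not at h0
  obtain ⟨x₀, hx₀, hμ₀⟩ := h0
  obtain ⟨w, hw, hw0⟩ : ∃ w ∈ D ⊓ LinearMap.ker μ, w ≠ 0 := by
    refine Submodule.exists_mem_ne_zero_of_ne_bot fun hbot => ?_
    have h1 := Submodule.finrank_sup_add_finrank_inf_eq D (LinearMap.ker μ)
    have h2 := Submodule.finrank_le (D ⊔ LinearMap.ker μ)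
    have h3 := μ.finrank_range_add_finrank_ker
    have h4 : Module.finrank F (LinearMap.range μ) ≤ 1 := (Submodule.finrank_le _).trans (by simp)
    rw [hbot, finrank_bot] at h1
    omega
  obtain ⟨hwD, hwμ⟩ := hw
  have e1 := h (x₀ + w) (D.add_mem hx₀ hwD) (by rw [map_add, LinearMap.mem_ker.1 hwμ, add_zero]; exact hμ₀)
  have e2 := h (x₀ - w) (D.sub_mem hx₀ hwD) (by rw [map_sub, LinearMap.mem_ker.1 hwμ, sub_zero]; exact hμ₀)
  have e0 := h x₀ hx₀ hμ₀
  rw [qmap_add, e0] at e1
  rw [qmap_sub, e0] at e2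
  refine ⟨w, hwD, hw0, ?_⟩
  rw [LinearMap.mem_ker.1 hwμ]
  exact ((mul_eq_zero.1 (show (2 : F) * Q w = 0 by linear_combination e1 + e2)).resolve_left h2).symm

/-- Vectors of `S` with a singular vector orthogonal to them. -/
def Nice (d : OS F L S V) (e : S) : Prop := ∃ c, c ≠ 0 ∧ d.QS c = 0 ∧ polB d.QS e c = 0

theorem step_aux (hH : d.Over H) (hS : d.Small H) : ∀ (n : ℕ) (g : orthGroup d.Q) (v u : L), g ∈ H →
    d.QL v = 0 → v ≠ 0 → d.QL u = 0 → u ≠ 0 → 1 ≤ Module.finrank F (into d g v u) →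
    Module.finrank F S ≤ n + Module.finrank F (into d g v u) →
    (Module.finrank F L = 5 → Module.finrank F (into d g v u) = 1 →
      ∃ c, c ≠ 0 ∧ d.QS c = 0 ∧ ∀ p ∈ into d g v u, polB d.QS p c = 0) → d.IsT g := by
  classical
  intro n
  induction n with
  | zero =>
    intro g v u hg hv hv0 hu hu0 _ hk _
    have htop : into d g v u = ⊤ := Submodule.eq_top_of_finrank_eq (le_antisymm (Submodule.finrank_le _) (by omega))
    obtain ⟨m, hm, r, hr, hmu⟩ := move d.ndL d.two d.threeL hu hu0 hv hv0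
    refine (d.IsT_mul_left_iff (d.liftL_isT m)).1
      (stab hH hS hv hv0 (mul_mem (hH.liftL_mem hm) hg) fun e => ?_)
    obtain ⟨e', he'⟩ := mem_into.1 (show e ∈ into d g v u by rw [htop]; trivial)
    rw [orth_mul_apply, ← he', d.liftL_t, hmu, ← d.W_smul hr]
    exact d.t_mem_W _ _
  | succ n ihn =>
    intro g v u hg hv hv0 hu hu0 hk1 hk hnice
    by_cases hfull : Module.finrank F S ≤ n + Module.finrank F (into d g v u)
    · exact ihn g v u hg hv hv0 hu hu0 hk1 hfull hnice
    set P := into d g v u with hP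
    set k := Module.finrank F P with hkdef
    have ih : Induct d H k := fun g' v' u' hg' hv' hv'0 hu' hu'0 hlt =>
      ihn g' v' u' hg' hv' hv'0 hu' hu'0 (by omega) (by omega) fun _ h1 => by omega
    set L' := (d.W u).comap g.1.toLinearMap with hL'
    have hmemL : ∀ l, l ∈ L' ↔ g.1 l ∈ d.W u := fun l => Iff.rfl
    have hL'd : Module.finrank F L' = Module.finrank F S := by
      rw [hL', Submodule.comap_equiv_eq_map_symm, LinearEquiv.finrank_map_eq]
      exact d.finrank_W hu0
    set vP := P.map (d.t v) with hvP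
    have hvPd : Module.finrank F vP = k := ((Submodule.equivMapOfInjective _ (d.t_injective hv0) P).finrank_eq).symm
    have hvPle : vP ≤ L' := by rintro _ ⟨p, hp, rfl⟩; exact hp
    by_cases hA : ∃ z ∈ L', z ∉ vP ∧ d.C v z = 0
    · obtain ⟨z, hz, hz', hCz⟩ := hA
      exact caseA hH hS hg hv hv0 hu hu0 hk1 le_rfl ih hz hz' hCz
    push Not at hA
    -- the contraction maps onto the orthogonal of `P`
    set χ : L' →ₗ[F] S := d.C v ∘ₗ L'.subtype with hχ
    have hkerd : Module.finrank F (LinearMap.ker χ) ≤ k := by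
      rw [(Submodule.equivMapOfInjective _ L'.injective_subtype (LinearMap.ker χ)).finrank_eq, ← hvPd]
      refine Submodule.finrank_mono ?_
      rintro _ ⟨⟨z, hz⟩, hzk, rfl⟩
      by_contra hzv
      exact hA z hz hzv hzk
    have hiso : ∀ a b, a ∈ L' → b ∈ L' → polB d.Q a b = 0 := fun a b ha hb => by
      rw [← orth_polB_map g]; exact d.W_isotropic hu ha hb
    have hrle : LinearMap.range χ ≤ (polB d.QS).orthogonal P := by
      rintro _ ⟨⟨z, hz⟩, rfl⟩ p hp
      show polB d.QS p (d.C v z) = 0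
      rw [d.b_C', polB_comm]
      exact hiso _ _ (hvPle ⟨p, hp, rfl⟩) hz
    have hr1 := χ.finrank_range_add_finrank_ker
    have hr2 := finrank_orth_add d.ndS P
    have hreq : LinearMap.range χ = (polB d.QS).orthogonal P :=
      Submodule.eq_of_le_of_finrank_le hrle (by omega)
    -- the pairing
    obtain ⟨v', hpv⟩ := exists_hypPair d.ndL hv hv0
    set A' := (polB d.QL).orthogonal (Submodule.span F ({v, v'} : Set L)) with hA'
    have hA'd : Module.finrank F L ≤ Module.finrank F A' + 2 := finrank_orth_pair d.ndL v v'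
    have hA'v : ∀ w ∈ A', polB d.QL v w = 0 := fun w hw => (mem_orth_pair.1 hw).1
    have hA'n : ∀ w ∈ A', w ≠ 0 → w ∉ F ∙ v := fun w hw hw0 hmem => by
      obtain ⟨s, rfl⟩ := Submodule.mem_span_singleton.1 hmem
      have := (mem_orth_pair.1 hw).2
      rw [map_smul, hpv.symm.pair, smul_eq_mul, mul_one] at this
      exact hw0 (by rw [this, zero_smul])
    let φ : V → L →ₗ[F] (V →ₗ[F] F) := fun l₁ =>
      { toFun := fun w => polB d.QS (d.C v l₁) ∘ₗ d.C w - polB d.QS (d.C w l₁) ∘ₗ d.C v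
        map_add' := fun w w' => LinearMap.ext fun l => by
          simp only [LinearMap.add_apply, LinearMap.sub_apply, LinearMap.comp_apply, d.C_add, map_add]
          ring
        map_smul' := fun r w => LinearMap.ext fun l => by
          simp only [LinearMap.smul_apply, LinearMap.sub_apply, LinearMap.comp_apply, d.C_smul, map_smul,
            RingHom.id_apply, smul_eq_mul]
          ring }
    have hφ : ∀ l₁ w l, φ l₁ w l = polB d.QS (d.C v l₁) (d.C w l) - polB d.QS (d.C w l₁) (d.C v l) :=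
      fun l₁ w l => rfl
    have hKform : ∀ l₁ l w, polB d.QL v w = 0 → l₁ ∈ L' → l ∈ L' → polB d.Q ((d.sg v w).1 l₁) l =
        φ l₁ w l - d.QL w * polB d.QS (d.C v l₁) (d.C v l) := by
      intro l₁ l w hw h1 h2
      rw [d.sg_apply hv hw, hφ]
      simp only [map_add, map_sub, map_smul, LinearMap.add_apply, LinearMap.sub_apply, LinearMap.smul_apply,
        smul_eq_mul, hiso l₁ l h1 h2, zero_add]
      rw [polB_comm (d.t w _) l, polB_comm (d.t v (d.C w l₁)) l, polB_comm (d.t v (d.C v l₁)) l, ← d.b_C',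
        ← d.b_C', ← d.b_C']
    have hφvP : ∀ l₁ w, polB d.QL v w = 0 → ∀ l ∈ vP, φ l₁ w l = 0 := by
      rintro l₁ w hw _ ⟨p, hp, rfl⟩
      rw [hφ, d.C_t, d.C_t, polB_self_zero hv, hw]
      simp
    have hφself : ∀ l₁ w, φ l₁ w l₁ = 0 := fun l₁ w => by rw [hφ, polB_comm, sub_self]
    have done' : ∀ l₁ ∈ L', l₁ ∉ vP → ∀ w ∈ A', w ≠ 0 →
        (∀ l ∈ L', φ l₁ w l = d.QL w * polB d.QS (d.C v l₁) (d.C v l)) → d.IsT g := by
      intro l₁ h1 h1' w hw hw0 heq
      exact finish hH hS hg hv hv0 hu hu0 hk1 le_rfl ih (hA'v w hw) (hA'n w hw hw0) h1 h1' fun l hl => by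
        rw [hKform l₁ l w (hA'v w hw) h1 hl, heq l hl, sub_self]
    have hnot : ∀ l ∈ L', d.C v l ≠ 0 → l ∉ vP := by
      rintro l - hne ⟨p, hp, rfl⟩
      exact hne (by rw [d.C_t, polB_self_zero hv, zero_smul])
    by_cases hc : ∃ c ∈ (polB d.QS).orthogonal P, c ≠ 0 ∧ d.QS c = 0
    · obtain ⟨c, hcP, hc0, hc⟩ := hc
      rw [← hreq] at hcP
      obtain ⟨⟨l₁, hl₁⟩, rfl⟩ := hcP
      change d.C v l₁ ≠ 0 at hc0
      change d.QS (d.C v l₁) = 0 at hc
      set κ : V →ₗ[F] F := polB d.QS (d.C v l₁) ∘ₗ d.C v with hκ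
      set Z := L' ⊓ LinearMap.ker κ with hZ
      set U := vP ⊔ F ∙ l₁ with hU
      have hUZ : U ≤ Z := by
        refine sup_le (fun x hx => ⟨hvPle hx, ?_⟩) ((Submodule.span_singleton_le_iff_mem _ _).2 ⟨hl₁, ?_⟩)
        · obtain ⟨p, hp, rfl⟩ := hx
          show polB d.QS (d.C v l₁) (d.C v (d.t v p)) = 0
          rw [d.C_t, polB_self_zero hv, zero_smul, map_zero]
        · show polB d.QS (d.C v l₁) (d.C v l₁) = 0
          exact polB_self_zero hc
      have hUd : k + 1 ≤ Module.finrank F U := by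
        rw [← hvPd]
        exact Submodule.finrank_lt_finrank_of_lt (lt_of_le_of_ne le_sup_left fun h => hnot l₁ hl₁ hc0 (by
          rw [h]; exact Submodule.mem_sup_right (Submodule.mem_span_singleton_self l₁)))
      let Ψ : A' →ₗ[F] Module.Dual F Z := (Z.subtype.dualMap ∘ₗ φ l₁) ∘ₗ A'.subtype
      have hΨr : LinearMap.range Ψ ≤ (U.comap Z.subtype).dualAnnihilator := by
        rintro _ ⟨⟨w, hw⟩, rfl⟩
        rw [Submodule.mem_dualAnnihilator]
        rintro ⟨z, hz⟩ hzU
        obtain ⟨a, ha, b, hb, hab⟩ := Submodule.mem_sup.1 hzU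
        obtain ⟨s, rfl⟩ := Submodule.mem_span_singleton.1 hb
        show φ l₁ w z = 0
        rw [show z = a + s • l₁ from hab.symm, map_add, map_smul, hφvP l₁ w (hA'v w hw) a ha, hφself]
        simp
      have hann := Subspace.finrank_add_finrank_dualAnnihilator_eq (U.comap Z.subtype)
      rw [(Submodule.comapSubtypeEquivOfLe hUZ).finrank_eq] at hann
      have hΨd := Ψ.finrank_range_add_finrank_ker
      have hΨle := Submodule.finrank_mono hΨr
      set D := (LinearMap.ker Ψ).map A'.subtype with hD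
      have hDd : Module.finrank F D = Module.finrank F (LinearMap.ker Ψ) :=
        ((Submodule.equivMapOfInjective _ A'.injective_subtype _).finrank_eq).symm
      have hDA : ∀ w ∈ D, w ∈ A' ∧ ∀ z ∈ Z, φ l₁ w z = 0 := by
        rintro _ ⟨⟨w, hw⟩, hwk, rfl⟩
        exact ⟨hw, fun z hz => LinearMap.congr_fun (LinearMap.mem_ker.1 hwk) ⟨z, hz⟩⟩
      have := d.gap
      by_cases hκ0 : ∀ l ∈ L', κ l = 0
      · have hZL : Z = L' := inf_eq_left.2 hκ0
        have hZd : Module.finrank F Z = Module.finrank F S := by rw [hZL]; exact hL'd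
        obtain ⟨w, hw, hw0⟩ : ∃ w ∈ D, w ≠ 0 := by
          refine Submodule.exists_mem_ne_zero_of_ne_bot fun hbot => ?_
          rw [hbot, finrank_bot] at hDd
          omega
        refine done' l₁ hl₁ (hnot l₁ hl₁ hc0) w (hDA w hw).1 hw0 fun l hl => ?_
        rw [(hDA w hw).2 l (by rw [hZL]; exact hl),
          show polB d.QS (d.C v l₁) (d.C v l) = 0 from hκ0 l hl, mul_zero]
      · push Not at hκ0
        obtain ⟨l₀, hl₀, hl₀κ⟩ := hκ0
        set l₂ := (κ l₀)⁻¹ • l₀ with hl₂
        have hl₂L : l₂ ∈ L' := L'.smul_mem _ hl₀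
        have hκ2 : κ l₂ = 1 := by rw [hl₂, map_smul, smul_eq_mul, inv_mul_cancel₀ hl₀κ]
        have hZd : Module.finrank F Z < Module.finrank F S := by
          rw [← hL'd]
          exact Submodule.finrank_lt_finrank_of_lt (lt_of_le_of_ne inf_le_left fun h => by
            have : l₂ ∈ Z := h.symm ▸ hl₂L
            exact one_ne_zero (hκ2.symm.trans this.2))
        obtain ⟨w, hw, hw0, hμ⟩ := exists_point d.QL d.two D ((φ l₁).flip l₂) (by omega)
        refine done' l₁ hl₁ (hnot l₁ hl₁ hc0) w (hDA w hw).1 hw0 fun l hl => ?_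
        have h1 := (hDA w hw).2 (l - κ l • l₂) ⟨L'.sub_mem hl (L'.smul_mem _ hl₂L), by
          show κ (l - κ l • l₂) = 0
          rw [map_sub, map_smul, hκ2, smul_eq_mul, mul_one, sub_self]⟩
        rw [map_sub, map_smul, sub_eq_zero] at h1
        rw [h1, show φ l₁ w l₂ = d.QL w from hμ, smul_eq_mul, mul_comm]
        rfl
    push Not at hc
    -- at most two dimensions are left
    have hr : Module.finrank F ((polB d.QS).orthogonal P) ≤ 2 := by
      by_contra h3
      obtain ⟨c, hc1, hc2, hc3⟩ := exists_singular_in (Q := d.QS) ((polB d.QS).orthogonal P) (by omega)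
      exact hc c hc1 hc2 hc3
    obtain ⟨l₁, hl₁, hl₁'⟩ : ∃ l₁ ∈ L', l₁ ∉ vP := by
      by_contra h
      push Not at h
      have := Submodule.finrank_mono h
      omega
    have hge : 7 ≤ Module.finrank F L ∨ Module.finrank F ((polB d.QS).orthogonal P) ≤ 1 := by
      by_contra h
      rw [not_or] at h
      have := d.five
      have := d.gap
      have := d.three
      obtain ⟨j, hj⟩ := d.oddL
      obtain ⟨c, hc1, hc2, hc3⟩ := hnice (by omega) (by omega)
      exact hc c (fun p hp => hc3 p hp) hc1 hc2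
    set U := vP ⊔ F ∙ l₁ with hU
    have hUd : k + 1 ≤ Module.finrank F U := by
      rw [← hvPd]
      exact Submodule.finrank_lt_finrank_of_lt (lt_of_le_of_ne le_sup_left fun h => hl₁' (by
        rw [h]; exact Submodule.mem_sup_right (Submodule.mem_span_singleton_self l₁)))
    have hUle : U ≤ L' := sup_le hvPle ((Submodule.span_singleton_le_iff_mem _ _).2 hl₁)
    let Ψ : A' →ₗ[F] Module.Dual F L' := (L'.subtype.dualMap ∘ₗ φ l₁) ∘ₗ A'.subtype
    have hΨr : LinearMap.range Ψ ≤ (U.comap L'.subtype).dualAnnihilator := by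
      rintro _ ⟨⟨w, hw⟩, rfl⟩
      rw [Submodule.mem_dualAnnihilator]
      rintro ⟨z, hz⟩ hzU
      obtain ⟨a, ha, b, hb, hab⟩ := Submodule.mem_sup.1 hzU
      obtain ⟨s, rfl⟩ := Submodule.mem_span_singleton.1 hb
      show φ l₁ w z = 0
      rw [show z = a + s • l₁ from hab.symm, map_add, map_smul, hφvP l₁ w (hA'v w hw) a ha, hφself]
      simp
    have hann := Subspace.finrank_add_finrank_dualAnnihilator_eq (U.comap L'.subtype)
    rw [(Submodule.comapSubtypeEquivOfLe hUle).finrank_eq] at hann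
    have hΨd := Ψ.finrank_range_add_finrank_ker
    have hΨle := Submodule.finrank_mono hΨr
    have := d.five
    obtain ⟨w, hw, hw0, hwQ⟩ := exists_singular_in (Q := d.QL) ((LinearMap.ker Ψ).map A'.subtype) (by
      rw [← (Submodule.equivMapOfInjective _ A'.injective_subtype (LinearMap.ker Ψ)).finrank_eq]
      omega)
    obtain ⟨⟨w, hwA⟩, hwk, rfl⟩ := hw
    refine done' l₁ hl₁ hl₁' w hwA hw0 fun l hl => ?_
    rw [show d.QL w = 0 from hwQ, zero_mul]
    exact LinearMap.congr_fun (LinearMap.mem_ker.1 hwk) ⟨l, hl⟩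

/-- An element carrying a pure singular vector into a singular column is a product. -/
theorem step (hH : d.Over H) (hS : d.Small H) {g : orthGroup d.Q} (hg : g ∈ H) {v u : L} (hv : d.QL v = 0)
    (hv0 : v ≠ 0) (hu : d.QL u = 0) (hu0 : u ≠ 0) {e : S} (he : e ≠ 0) (hge : g.1 (d.t v e) ∈ d.W u)
    (hnice : Module.finrank F L = 5 → Nice d e) : d.IsT g := by
  classical
  have h1 : F ∙ e ≤ into d g v u := (Submodule.span_singleton_le_iff_mem _ _).2 hge
  have h2 := Submodule.finrank_mono h1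
  rw [finrank_span_singleton he] at h2
  refine step_aux hH hS (Module.finrank F S) g v u hg hv hv0 hu hu0 h2 (by omega) fun hl hk => ?_
  obtain ⟨c, hc0, hc, hec⟩ := hnice hl
  have heq := Submodule.eq_of_le_of_finrank_le h1 (by rw [hk, finrank_span_singleton he])
  refine ⟨c, hc0, hc, fun p hp => ?_⟩
  rw [← heq] at hp
  obtain ⟨s, rfl⟩ := Submodule.mem_span_singleton.1 hp
  rw [map_smul, LinearMap.smul_apply, hec, smul_zero]

end OS

end H98.TO
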